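import Cfsg.Agent.H269.Ppd.SUFourMain
import Cfsg.Agent.H100.Ppd.Basic
import Cfsg.Agent.S0280

/-!
# TEAM PPD (S5948): `PSU(4, q₀)` in the defining characteristic (helper269)

* `dvd_of_card4` : the primes dividing the order of `PSU(4, q)`;
* **`not_psu4`** : the row.
-/

set_option autoImplicit false
set_option linter.unusedSectionVars false

namespace Cfsg.Agent.H269.Ppd

open Cfsg Cfsg.Geo Matrix Cfsg.Agent.H100.Ppd Cfsg.Agent.H915.LD
open scoped MatrixGroups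

universe u

/-- the primes dividing the order of `PSU(4, q)` -/
theorem dvd_of_card4 {K : Type} [Field K] [Fintype K] {q r : ℕ} (hK : Fintype.card K = q ^ 2) (hq : 2 ≤ q)
    (hr : r.Prime) (hrq : ¬ r ∣ q) (hd : r ∣ Nat.card (PSU 4 K q)) : r ∣ q ^ 6 - 1 ∨ r ∣ q ^ 4 - 1 := by
  have h1 := S0280.result hK 4 (by norm_num)
  simp only [Finset.prod_range_succ, Finset.prod_range_zero, one_mul] at h1
  have e0 : (if Even 0 then q ^ (0 + 1) + 1 else q ^ (0 + 1) - 1) = q + 1 := by norm_num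
  have e1 : (if Even 1 then q ^ (1 + 1) + 1 else q ^ (1 + 1) - 1) = q ^ 2 - 1 := by norm_num
  have e2 : (if Even 2 then q ^ (2 + 1) + 1 else q ^ (2 + 1) - 1) = q ^ 3 + 1 := by norm_num
  have e3 : (if Even 3 then q ^ (3 + 1) + 1 else q ^ (3 + 1) - 1) = q ^ 4 - 1 := by
    rw [if_neg (by decide)]
  rw [e0, e1, e2, e3] at h1
  have h2 : r ∣ q ^ (4 * (4 - 1) / 2) * ((q + 1) * (q ^ 2 - 1) * (q ^ 3 + 1) * (q ^ 4 - 1)) := by
    have h3 : r ∣ Nat.gcd 4 (q + 1) * ((q + 1) * Nat.card (PSU 4 K q)) := (hd.mul_left _).mul_left _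
    rwa [h1] at h3
  have e6 : q ^ 6 - 1 = (q ^ 3 - 1) * (q ^ 3 + 1) := by
    have hq3 : 1 ≤ q ^ 3 := Nat.one_le_pow _ _ (by omega)
    obtain ⟨s, hs⟩ : ∃ s, q ^ 3 = s + 1 := ⟨q ^ 3 - 1, (Nat.sub_add_cancel hq3).symm⟩
    have h7 : q ^ 6 = q ^ 3 * q ^ 3 := by ring
    have h8 : (s + 1) * (s + 1) = s * (s + 1 + 1) + 1 := by ring
    rw [h7, hs, h8, Nat.add_sub_cancel, Nat.add_sub_cancel]
  have h4 : q ^ 2 - 1 ∣ q ^ 4 - 1 := Nat.pow_sub_one_dvd_pow_sub_one q (by norm_num)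
  have h5 : q + 1 ∣ q ^ 2 - 1 := ⟨q - 1, by rw [← Nat.sq_sub_sq q 1, one_pow]⟩
  have h6 : q ^ 3 + 1 ∣ q ^ 6 - 1 := by rw [e6]; exact dvd_mul_left _ _
  rcases hr.dvd_mul.1 h2 with h | h
  · exact absurd (hr.dvd_of_dvd_pow h) hrq
  rcases hr.dvd_mul.1 h with h | h
  · rcases hr.dvd_mul.1 h with h | h
    · rcases hr.dvd_mul.1 h with h | h
      · exact Or.inr (h.trans (h5.trans h4))
      · exact Or.inr (h.trans h4)
    · exact Or.inl (h.trans h6)
  · exact Or.inr h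

theorem bound_A : ∀ N : ℕ, 2 ≤ N → 6 * N + 4 ≤ 4 * 2 ^ N := by
  intro N hN
  induction N, hN using Nat.le_induction with
  | base => norm_num
  | succ N hN ih =>
    rw [pow_succ]
    omega

theorem bound_B : ∀ s : ℕ, 3 ≤ s → 12 * s ≤ 4 ^ s := by
  intro s hs
  induction s, hs using Nat.le_induction with
  | base => norm_num
  | succ N hN ih =>
    rw [pow_succ]
    omega

variable {F : Type u} [Field F] [Finite F]

/-- the field of definition of a core of type `PSU(4, q)` -/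
theorem exists_card_pow {ι : Type} [Fintype ι] [DecidableEq ι] [Nonempty ι] {P : Subgroup (GL ι F)} (hC : Core P)
    (p : ℕ) [hp : Fact p.Prime] [hFp : CharP F p] {K : Type} [Field K] [Fintype K] [hKp : CharP K p] {q M : ℕ}
    (hM : 3 ≤ M) (h32 : ¬ (M = 3 ∧ q = 2)) (hK : Fintype.card K = q ^ 2) (e : Soc P ≃* PSU M K q) :
    ∃ N, 1 ≤ N ∧ Nat.card F ^ N = q ^ 2 := by
  obtain ⟨b, -, hb⟩ := FiniteField.card K p
  have h1 : ∀ x : F, x ^ p ^ (b : ℕ) = x := H905.Md.pow_eq_of_no_subfield hC.absIrred hC.no_subfield p b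
    (fun g hg => by
      have h2 := (H905.Md.psu_both p hC.absIrred hC.perfect hM hK h32 e hg).1
      rwa [← hK, hb] at h2)
  obtain ⟨N, hN1, hN⟩ := H905.Md.card_pow_eq p b.pos.ne' h1
  exact ⟨N, hN1, by rw [hN, ← hb, hK]⟩

/-- **The row `PSU(4, q₀)`, defining characteristic** -/
theorem not_psu4 {n k m : ℕ} {P : Subgroup (GL (Fin n) F)} (h : Row k m P)
    (hg : ∃ r, r.Prime ∧ r ∣ m ∧ r ∣ Nat.card (Soc P)) {p : ℕ} [hp : Fact p.Prime] [hFp : CharP F p] {K : Type}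
    [Field K] [Fintype K] [hKp : CharP K p] {q₀ : ℕ} (hK : Fintype.card K = q₀ ^ 2)
    (e : Soc P ≃* PSU 4 K q₀) : False := by
  have hten := h.num.ten
  have hlt := h.num.nlt
  have hne : Nonempty (Fin n) := ⟨⟨0, by omega⟩⟩
  have hq2 : 2 ≤ q₀ := by
    by_contra hcon
    have h1 := Fintype.one_lt_card (α := K)
    rw [hK] at h1
    have h2 : q₀ = 0 ∨ q₀ = 1 := by omega
    rcases h2 with rfl | rfl <;> norm_num at h1
  obtain ⟨N, hN1, hN⟩ := exists_card_pow h.core p (M := 4) (by norm_num) (by omega) hK e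
  have hb := core_bound4 p h.core hK e hN (by rw [Fintype.card_fin]; omega)
  rw [Fintype.card_fin] at hb
  obtain ⟨r, hr, hrm, hrc⟩ := hg
  have hrq : ¬ r ∣ q₀ := by
    intro hd
    have h1 : r ∣ Nat.card F ^ N := by
      rw [hN]
      exact dvd_pow hd (by norm_num)
    exact h.num.not_dvd_q hr hrm (hr.dvd_of_dvd_pow h1)
  rw [Nat.card_congr e.toEquiv] at hrc
  have hkey : ∀ c : ℕ, r ∣ q₀ ^ (2 * c) - 1 → k ∣ c * N := by
    intro c hc
    rw [← h.num.pow_eq_one_iff hr hrm]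
    have : Fact r.Prime := ⟨hr⟩
    have h2 : Nat.card F ^ (c * N) = q₀ ^ (2 * c) := by
      rw [mul_comm, pow_mul, hN, ← pow_mul]
    have h3 : 1 ≤ q₀ ^ (2 * c) := Nat.one_le_pow _ _ (by omega)
    rw [← Nat.cast_pow, h2, ← sub_eq_zero, ← Nat.cast_one, ← Nat.cast_sub h3, ZMod.natCast_eq_zero_iff]
    exact hc
  have hk : k ≤ 3 * N := by
    rcases dvd_of_card4 hK hq2 hr hrq hrc with h1 | h1
    · exact Nat.le_of_dvd (by omega) (hkey 3 h1)
    · exact (Nat.le_of_dvd (by omega) (hkey 2 h1)).trans (Nat.mul_le_mul_right _ (by norm_num))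
  rcases hb with hb | ⟨s, hs1, hsN, h4, h25, h14⟩
  · have := bound_A N (by omega)
    omega
  · by_cases hs3 : 3 ≤ s
    · have := bound_B s hs3
      rcases hsN with h5 | h5 <;> omega
    · have hs : s = 1 ∨ s = 2 := by omega
      rcases hs with rfl | rfl
      · have := h14 rfl
        rcases hsN with h5 | h5 <;> omega
      · have := h25 rfl
        rcases hsN with h5 | ⟨h5, h6⟩
        · omega
        · exact h6 (dvd_refl _)

end Cfsg.Agent.H269.Ppd
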