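import Cfsg.Agent.H269.Ppd.Minor

/-!
# The matrix coefficient for the type `J = {0}` in type `B_2` (helper269)

* `fix_of_mem` : the rank one group of a node of `J` fixes `V^U`;
* **`master`** : `φ (g c) = φ(c) j(F2 g) ^ c₂`;
* `mem_WJ_sub`.
-/

set_option autoImplicit false
set_option linter.unusedSectionVars false
set_option linter.style.haveILetI false

namespace Cfsg.Agent.H269.Ppd

open CoxeterSystem Cfsg.Agent.ChevalleyStructure.CoxeterGeom Cfsg.Agent.Tits.Roots Cfsg.Agent.Nodes.TypeC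
open Cfsg.Agent.Nodes.Comb Cfsg.Agent.Nodes.Reps Cfsg.Agent.Nodes.WittRoot Cfsg.Agent.Nodes.BNOf
open Cfsg.Agent.Nodes.WittRGD Cfsg.Agent.Nodes.RGDLib Cfsg.Agent.Nodes.OppDec Cfsg.Agent.Nodes.Bruhat
open Cfsg.Agent.Omega.CR Cfsg.Agent.Omega.FOne.Lift.Sd Cfsg.Agent.Nodes.StabComb Cfsg.Agent.Tits.Core
open Cfsg.Agent.Tits.Exchange Cfsg.Agent.H905.Md Cfsg.Agent.KFacts.RgdOpp
open Cfsg.Agent.TitsThree Cfsg.Agent.TitsThree.Siegel Cfsg.Agent.TitsThree.WittFrame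
  Cfsg.Agent.TitsThree.WittWeyl Cfsg.Agent.TitsThree.FrameCN

section Gen

variable {I W Y : Type*} [Fintype I] [DecidableEq I] [Group W] [Group Y] {M : CoxeterMatrix I}
  {cs : CoxeterSystem M W} {A : I → I → ℤ} {h : IsCartan M A} {p : ℕ} {T : Subgroup Y} {n : I → Y}
  {X : (I → ℤ) → Subgroup Y} {k E : Type*} [Field k] [AddCommGroup E] [Module k E] {ρ : Y →* Module.End k E}

/-- the rank one group of a node of `J` fixes `V^U` -/
theorem fix_of_mem {i : I} (hi : i ∈ Jx cs h X ρ) {c : E} (hc : c ∈ D cs h X ρ) {y : Y}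
    (hy : y ∈ X (sr i) ⊔ X (-sr i)) : ρ y c = c := by
  have h2 : c ∈ fx ρ (X (sr i) ⊔ X (-sr i)) := by
    rw [fx_sup]
    refine ⟨fun b hb => ?_, fun b hb => hi b hb c hc⟩
    exact hc b (RGD.le_Sup (S := RGD.Pos cs h) ⟨isRoot_sr cs _ i, sr_nonneg i⟩ hb)
  exact h2 y hy

theorem chi_mul {c : E} (hc0 : c ≠ 0) {χ : Y → k} (hχ : ∀ t ∈ T, ρ t c = χ t • c) {t t' : Y} (ht : t ∈ T)
    (ht' : t' ∈ T) : χ (t * t') = χ t * χ t' := by
  have h1 := hχ _ (mul_mem ht ht')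
  rw [rho_mul, hχ t' ht', map_smul, hχ t ht, smul_smul, mul_comm] at h1
  exact (smul_left_injective k hc0 h1).symm

theorem chi_one {c : E} (hc0 : c ≠ 0) {χ : Y → k} (hχ : ∀ t ∈ T, ρ t c = χ t • c) : χ 1 = 1 := by
  have h1 := hχ 1 (one_mem _)
  rw [map_one] at h1
  have h2 : (1 : k) • c = χ 1 • c := by rw [one_smul]; exact h1
  exact (smul_left_injective k hc0 h2).symm

theorem mem_WJ_sub {J : Set I} {i : I} (hJ : J ⊆ {i}) {w : W} (hw : w ∈ WJ cs J) :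
    w = 1 ∨ (i ∈ J ∧ w = cs.simple i) := by
  unfold WJ at hw
  induction hw using Subgroup.closure_induction with
  | mem x hx =>
    obtain ⟨j, hj, rfl⟩ := hx
    have h1 : j = i := hJ hj
    subst h1
    exact Or.inr ⟨hj, rfl⟩
  | one => exact Or.inl rfl
  | mul x y _ _ hx hy =>
    rcases hx with rfl | ⟨h1, rfl⟩
    · rw [one_mul]; exact hy
    · rcases hy with rfl | ⟨h2, rfl⟩
      · rw [mul_one]; exact Or.inr ⟨h1, rfl⟩
      · rw [cs.simple_mul_simple_self]; exact Or.inl rfl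
  | inv x _ hx =>
    rcases hx with rfl | ⟨h1, rfl⟩
    · exact Or.inl inv_one
    · rw [cs.inv_simple]; exact Or.inr ⟨h1, rfl⟩

end Gen

section B2

variable {K : Type*} [Field K] {V : Type*} [AddCommGroup V] [Module K V] {H : HForm K V} {Fr : Frame H (Fin 2)}
  {W Y : Type*} [Group W] [Group Y] {cs : CoxeterSystem (CoxeterMatrix.B 2) W} {p : ℕ} {T : Subgroup Y}
  {n : Fin 2 → Y} {X : (Fin 2 → ℤ) → Subgroup Y}

/-- The realisation of `Y` as a group of isometries of a frame of rank two. -/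
structure Real (Fr : Frame H (Fin 2)) (T : Subgroup Y) (n : Fin 2 → Y) (X : (Fin 2 → ℤ) → Subgroup Y)
    (τ : Y →* (V ≃ₗ[K] V)) : Prop where
  tor : ∀ t ∈ T, Mono Fr (τ t) id
  mono : ∀ i, Mono Fr (τ (n i)) (Cfsg.Agent.Nodes.TypeC.sg i)
  root : ∀ x, ∀ y ∈ X x, τ y ∈ rg Fr x
  sup : ∀ i, n i ∈ X (sr i) ⊔ X (-sr i)
  n0 : τ (n 0) (Fr.b (0, true)) = -Fr.b (1, true)
  n0' : τ (n 0) (Fr.b (1, true)) = Fr.b (0, true)

variable {τ : Y →* (V ≃ₗ[K] V)} (hR : Real Fr T n X τ)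
include hR

theorem Real.U_le {u : Y} (hu : u ∈ RGD.Sup X (RGD.Pos cs (isCartan 2))) : τ u ∈ SFl Fr true := by
  have h1 : RGD.Sup X (RGD.Pos cs (isCartan 2)) ≤ (SFl Fr true).comap τ :=
    RGD.Sup_le fun x hx g hg => rg_le_up Fr hx.1 hx.2 (hR.root x g hg)
  exact h1 hu

theorem Real.UN_le {u : Y} (hu : u ∈ UN cs (isCartan 2) X) : τ u ∈ SFl Fr false := by
  have h1 : UN cs (isCartan 2) X ≤ (SFl Fr false).comap τ := by
    unfold UN
    exact RGD.Sup_le fun x hx g hg => rg_le_lo Fr hx.1 hx.2 (hR.root x g hg)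
  exact h1 hu

theorem Real.F2_mul_n0 (g : V ≃ₗ[K] V) : F2 Fr (g * τ (n 0)) = F2 Fr g := by
  unfold F2
  simp only [mul_apply']
  rw [hR.n0, hR.n0', map_neg, H.neg_left, H.neg_left]
  ring

variable (R : RGD cs (isCartan 2) p T n X) [Finite Y] [Finite W] [Fact p.Prime] {k E : Type*} [Field k] [CharP k p]
  [AddCommGroup E] [Module k E] [FiniteDimensional k E] [Nontrivial E] {ρ : Y →* Module.End k E}
  (hirr : ∀ L : Submodule k E, Ivt ρ (GG cs (isCartan 2) T X) L → L = ⊥ ∨ L = ⊤)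
  {c : E} (hc : c ∈ D cs (isCartan 2) X ρ) (hc0 : c ≠ 0) {χ : Y → k} (hχ : ∀ t ∈ T, ρ t c = χ t • c)
  {j : K →+* k} {c₂ : ℕ} (hc2 : c₂ ≠ 0) (h0 : (0 : Fin 2) ∈ Jx cs (isCartan 2) X ρ)
  (h1 : (1 : Fin 2) ∉ Jx cs (isCartan 2) X ρ) (hχ2 : ∀ t ∈ T, χ t = j (F2 Fr (τ t)) ^ c₂) {φ : Module.Dual k E}
  (hφ : φ ∈ fx (dualRep ρ) (UN cs (isCartan 2) X))
include R hirr hc hc0 hχ hc2 h0 h1 hχ2 hφ

theorem Real.coeff_rp {w : W} {y : Y} (hy : Rp cs R.nsys w y) : φ (ρ y c) = φ c * j (F2 Fr (τ y)) ^ c₂ := by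
  by_cases hw : w ∈ WJ cs (Jx cs (isCartan 2) X ρ)
  · have hmain : ρ y c = (j (F2 Fr (τ y)) ^ c₂) • c := by
      have hJ : Jx cs (isCartan 2) X ρ ⊆ {0} := by
        intro x hx
        fin_cases x
        · rfl
        · exact absurd hx h1
      rcases mem_WJ_sub hJ hw with rfl | ⟨-, rfl⟩
      · have ht := hy.mem_of_one
        rw [hχ y ht, hχ2 y ht]
      · have ht := (hy.mul (rp_simple cs R.nsys 0).inv)
        rw [mul_inv_cancel] at ht
        have ht' := ht.mem_of_one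
        have e : y = (y * (n 0)⁻¹) * n 0 := by group
        have hn : ρ (n 0) c = c := fix_of_mem h0 hc (hR.sup 0)
        have h3 : F2 Fr (τ y) = F2 Fr (τ (y * (n 0)⁻¹)) := by
          conv_lhs => rw [e, map_mul]
          exact hR.F2_mul_n0 _
        conv_lhs => rw [e, rho_mul, hn, hχ _ ht', hχ2 _ ht']
        rw [h3]
    rw [hmain, map_smul, smul_eq_mul, mul_comm]
  · have h3 : φ (ρ y c) = 0 := by
      by_contra hne
      exact hw (mem_WJ_of_pair R hirr hφ hy hc hne)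
    rw [h3]
    symm
    by_contra hne
    apply hw
    rw [mem_WJ_iff]
    have h4 : j (F2 Fr (τ y)) ^ c₂ ≠ 0 := fun h => hne (by rw [h, mul_zero])
    intro x i hi
    fin_cases i
    · exact absurd h0 hi
    · have h6 : F2 Fr (τ y) ≠ 0 := by
        intro h
        apply h4
        rw [h, map_zero, zero_pow hc2]
      exact of_F2 R.nsys hR.tor hR.mono hy h6 x

/-- **The matrix coefficient.** -/
theorem Real.master (hG : GG cs (isCartan 2) T X = ⊤) {v0 : W} (hv : ∀ x, rep cs (isCartan 2) v0 x = -x) (y : Y) :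
    φ (ρ y c) = φ c * j (F2 Fr (τ y)) ^ c₂ := by
  refine coeff_eq R hv hφ hc (F := fun y => φ c * j (F2 Fr (τ y)) ^ c₂) (fun a ha g => ?_) (fun u hu g => ?_)
    (fun w z hz => hR.coeff_rp R hirr hc hc0 hχ hc2 h0 h1 hχ2 hφ hz) (g := y) (by rw [hG]; trivial)
  · change φ c * j (F2 Fr (τ (a * g))) ^ c₂ = _
    rw [map_mul, F2_lo_mul (hR.UN_le ha)]
  · change φ c * j (F2 Fr (τ (g * u))) ^ c₂ = _
    rw [map_mul, F2_mul_up (hR.U_le hu)]

end B2

end Cfsg.Agent.H269.Ppd
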