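import Cfsg.Agent.H905.MdR
import Cfsg.Agent.H905.MdQ
import Cfsg.Agent.H905.MdK
import Cfsg.Agent.H905.Sp4Act

/-!
# The second coordinate function of a Witt frame of rank two (helper269)

`Fr` a frame with `e_0, e_1, f_0, f_1` (`b (i, true) = e_i`, `b (i, false) = f_i`), `F2 g` the minor
`h(g e_0, f_0) h(g e_1, f_1) - h(g e_0, f_1) h(g e_1, f_0)`.

* `SUp`, `rg_le_up`, `rg_le_lo` : positive (negative) root groups stabilise the flags;
* `F2_mul_up`, `F2_lo_mul` : invariance;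
* `exists_pi`, `of_F2` : `F2 ≠ 0` on a representative of `w` implies that `w` preserves the coordinate `1`.
-/

set_option autoImplicit false
set_option linter.unusedSectionVars false
set_option linter.style.haveILetI false

namespace Cfsg.Agent.H269.Ppd

open CoxeterSystem Cfsg.Agent.ChevalleyStructure.CoxeterGeom Cfsg.Agent.Tits.Roots Cfsg.Agent.Nodes.TypeC
open Cfsg.Agent.Nodes.Comb Cfsg.Agent.Nodes.Reps Cfsg.Agent.Nodes.WittRoot Cfsg.Agent.Nodes.BNOf
open Cfsg.Agent.Nodes.WittRGD Cfsg.Agent.Nodes.RGDLib Cfsg.Agent.Nodes.OppDec Cfsg.Agent.Nodes.Bruhat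
open Cfsg.Agent.TitsThree Cfsg.Agent.TitsThree.Siegel Cfsg.Agent.TitsThree.WittFrame
  Cfsg.Agent.TitsThree.WittWeyl Cfsg.Agent.TitsThree.FrameCN
open Cfsg.Agent.H905.Sp4 (pos_cases ee0 ee1)

variable {K : Type*} [Field K] {V : Type*} [AddCommGroup V] [Module K V] {H : HForm K V} (Fr : Frame H (Fin 2))

/-- isometries which fix `b (0, s)` and fix `b (1, s)` modulo `b (0, s)` -/
def SFl (s : Bool) : Subgroup (V ≃ₗ[K] V) where
  carrier := {g | H.IsIso g ∧ g (Fr.b (0, s)) = Fr.b (0, s) ∧ ∃ a : K, g (Fr.b (1, s)) = Fr.b (1, s) + a • Fr.b (0, s)}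
  one_mem' := ⟨fun _ _ => rfl, rfl, 0, by rw [zero_smul, add_zero]; rfl⟩
  mul_mem' := by
    rintro g k ⟨hg, g0, a, g1⟩ ⟨hk, k0, b, k1⟩
    refine ⟨HForm.IsIso.mul _ hg hk, ?_, a + b, ?_⟩
    · change g (k _) = _
      rw [k0, g0]
    · change g (k _) = _
      rw [k1, map_add, map_smul, g1, g0, add_smul, add_assoc]
  inv_mem' := by
    rintro g ⟨hg, g0, a, g1⟩
    have h0 : g⁻¹ (Fr.b (0, s)) = Fr.b (0, s) := by
      conv_lhs => rw [← g0]
      exact g.symm_apply_apply _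
    refine ⟨HForm.IsIso.inv _ hg, h0, -a, ?_⟩
    have h1 : g⁻¹ (g (Fr.b (1, s))) = Fr.b (1, s) := g.symm_apply_apply _
    rw [g1, map_add, map_smul, h0] at h1
    rw [neg_smul, ← sub_eq_add_neg, eq_sub_iff_add_eq]
    exact h1

/-- the action of a root element on the frame -/
theorem pg_apply {a b : Fin 2 × Bool} (hab : Ok a b) {g : V ≃ₗ[K] V} (hg : g ∈ PG Fr a b) :
    H.IsIso g ∧ (∀ z, z ≠ ng a → z ≠ ng b → g (Fr.b z) = Fr.b z) ∧
      (a ≠ b → ∃ t : K, g (Fr.b (ng a)) = Fr.b (ng a) + t • Fr.b b) ∧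
      (a ≠ b → ∃ t : K, g (Fr.b (ng b)) = Fr.b (ng b) + t • Fr.b a) := by
  rcases hab with h | rfl
  · rw [PG_ne Fr h] at hg
    obtain ⟨t, rfl⟩ := hg
    refine ⟨Fr.isIso_X _ _ _, fun z h1 h2 => X_apply_of_ne Fr h h1 h2 t,
      fun _ => ⟨-(H.ε⁻¹ * Fr.η a * Fr.η b * H.σ t), ?_⟩, fun _ => ⟨t, X_apply_neg Fr h t⟩⟩
    exact (X_apply_neg' Fr h t).trans (by rw [sub_eq_add_neg, ← neg_smul]; rfl)
  · rw [PG_self] at hg
    obtain ⟨p, rfl⟩ := hg
    exact ⟨Fr.isIso_Z _ _, fun z h1 _ => Z_apply_of_ne Fr h1 p, fun h => absurd rfl h, fun h => absurd rfl h⟩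

theorem pg_le {a b : Fin 2 × Bool} (s : Bool) (hab : Ok a b) (ha : a ≠ (0, !s)) (hb : b ≠ (0, !s))
    (h1 : a = (1, !s) → b = (0, s)) (h2 : b = (1, !s) → a = (0, s)) : PG Fr a b ≤ SFl Fr s := by
  intro g hg
  obtain ⟨hi, g1, g2, g3⟩ := pg_apply Fr hab hg
  refine ⟨hi, g1 _ ?_ ?_, ?_⟩
  · intro h
    apply ha
    have := congrArg ng h
    rw [ng_ng] at this
    rw [← this]
    rfl
  · intro h
    apply hb
    have := congrArg ng h
    rw [ng_ng] at this
    rw [← this]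
    rfl
  · by_cases ha1 : a = (1, !s)
    · have hb1 := h1 ha1
      obtain ⟨t, ht⟩ := g2 (by rw [ha1, hb1]; intro e; have := congrArg Prod.fst e; simp at this)
      refine ⟨t, ?_⟩
      rw [ha1, hb1] at ht
      have e : ng ((1 : Fin 2), !s) = (1, s) := by simp [ng]
      rwa [e] at ht
    · by_cases hb1 : b = (1, !s)
      · have ha2 := h2 hb1
        obtain ⟨t, ht⟩ := g3 (by rw [hb1, ha2]; intro e; have := congrArg Prod.fst e; simp at this)
        refine ⟨t, ?_⟩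
        rw [hb1, ha2] at ht
        have e : ng ((1 : Fin 2), !s) = (1, s) := by simp [ng]
        rwa [e] at ht
      · refine ⟨0, ?_⟩
        rw [zero_smul, add_zero]
        apply g1
        · intro h
          apply ha1
          have := congrArg ng h
          rw [ng_ng] at this
          rw [← this]
          rfl
        · intro h
          apply hb1
          have := congrArg ng h
          rw [ng_ng] at this
          rw [← this]
          rfl

section Roots

variable {W : Type*} [Group W] {cs : CoxeterSystem (CoxeterMatrix.B 2) W}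

/-- positive root groups -/
theorem rg_le_up {x : Fin 2 → ℤ} (hx : IsRoot cs (isCartan 2) x) (h0 : 0 ≤ x) : rg Fr x ≤ SFl Fr true := by
  obtain ⟨a, b, hab, e⟩ := exists_of_isRoot cs hx
  rw [rg_eq Fr hab e]
  have e0 := congrFun e 0
  have e1 := congrFun e 1
  rw [ee0] at e0
  rw [ee1] at e1
  have h2 := h0 0
  have h3 := h0 1
  simp only [Pi.zero_apply] at h2 h3
  obtain ⟨h4, h5, h6, h7⟩ := pos_cases hab (by omega) (by omega)
  exact pg_le Fr true hab h4 h5 h6 h7

/-- negative root groups -/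
theorem rg_le_lo {x : Fin 2 → ℤ} (hx : IsRoot cs (isCartan 2) x) (h0 : x ≤ 0) : rg Fr x ≤ SFl Fr false := by
  obtain ⟨a, b, hab, e⟩ := exists_of_isRoot cs hx
  rw [rg_eq Fr hab e]
  have e0 := congrFun e 0
  have e1 := congrFun e 1
  rw [ee0] at e0
  rw [ee1] at e1
  have h2 := h0 0
  have h3 := h0 1
  simp only [Pi.zero_apply] at h2 h3
  have hw : wt (ng a) + wt (ng b) = -(wt a + wt b) := by rw [wt_ng, wt_ng, neg_add]
  obtain ⟨h4, h5, h6, h7⟩ := pos_cases hab.ng (by rw [hw, Pi.neg_apply]; omega)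
    (by rw [hw, Pi.neg_apply, Pi.neg_apply]; omega)
  refine pg_le Fr false hab ?_ ?_ ?_ ?_
  · rintro rfl; exact h4 rfl
  · rintro rfl; exact h5 rfl
  · rintro rfl
    have h8 := h6 rfl
    rw [← ng_ng b, h8]
    rfl
  · rintro rfl
    have h8 := h7 rfl
    rw [← ng_ng a, h8]
    rfl

end Roots

/-! ### the coordinate function -/

/-- the second coordinate function -/
def F2 (g : V ≃ₗ[K] V) : K :=
  H.h (g (Fr.b (0, true))) (Fr.b (0, false)) * H.h (g (Fr.b (1, true))) (Fr.b (1, false)) -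
    H.h (g (Fr.b (0, true))) (Fr.b (1, false)) * H.h (g (Fr.b (1, true))) (Fr.b (0, false))

variable {Fr}

theorem F2_mul_up {u : V ≃ₗ[K] V} (hu : u ∈ SFl Fr true) (g : V ≃ₗ[K] V) : F2 Fr (g * u) = F2 Fr g := by
  obtain ⟨-, h0, a, h1⟩ := hu
  unfold F2
  simp only [mul_apply']
  rw [h0, h1, map_add, map_smul, H.add_left, H.add_left, H.smul_left, H.smul_left]
  ring

theorem lo_coord {u : V ≃ₗ[K] V} (hu : u ∈ SFl Fr false) :
    ∃ a : K, ∀ v, H.h (u v) (Fr.b (0, false)) = H.h v (Fr.b (0, false)) ∧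
      H.h (u v) (Fr.b (1, false)) = H.h v (Fr.b (1, false)) + a * H.h v (Fr.b (0, false)) := by
  obtain ⟨hi, h0, a, h1⟩ := (SFl Fr false).inv_mem hu
  have key : ∀ v w : V, H.h (u v) w = H.h v (u⁻¹ w) := by
    intro v w
    rw [← hi (u v) w]
    congr 1
    exact u.symm_apply_apply v
  refine ⟨H.σ a, fun v => ⟨?_, ?_⟩⟩
  · rw [key, h0]
  · rw [key, h1, H.add_right, H.smul_right]

theorem F2_lo_mul {u : V ≃ₗ[K] V} (hu : u ∈ SFl Fr false) (g : V ≃ₗ[K] V) : F2 Fr (u * g) = F2 Fr g := by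
  obtain ⟨a, ha⟩ := lo_coord hu
  unfold F2
  simp only [mul_apply']
  rw [(ha _).1, (ha _).2, (ha _).1, (ha _).2]
  ring

theorem F2_one : F2 Fr 1 = 1 := by
  unfold F2
  change H.h (Fr.b (0, true)) _ * H.h (Fr.b (1, true)) _ - H.h (Fr.b (0, true)) _ * H.h (Fr.b (1, true)) _ = 1
  rw [Fr.hb, Fr.hb, Fr.hb, Fr.hb]
  simp

/-- the coordinates of the frame vectors -/
theorem h_b_false (x : Fin 2 × Bool) (i : Fin 2) : H.h (Fr.b x) (Fr.b (i, false)) = if x = (i, true) then 1 else 0 := by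
  obtain ⟨j, s⟩ := x
  rw [Fr.hb]
  by_cases h : j = i
  · subst h
    cases s <;> simp
  · rw [if_neg (fun h' => h h'.1), if_neg (fun h' => h (congrArg Prod.fst h'))]

/-- multiplication by an element of the torus -/
theorem F2_mul_tor {g t : V ≃ₗ[K] V} (ht : Mono Fr t id) : F2 Fr (g * t) = F2 Fr g * F2 Fr t := by
  obtain ⟨l, -, e0⟩ := ht (0, true)
  obtain ⟨m, -, e1⟩ := ht (1, true)
  have e0' : t (Fr.b (0, true)) = l • Fr.b (0, true) := e0
  have e1' : t (Fr.b (1, true)) = m • Fr.b (1, true) := e1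
  unfold F2
  simp only [mul_apply']
  rw [e0', e1', map_smul, map_smul]
  simp only [H.smul_left, h_b_false]
  simp
  ring

section Pi

variable {W : Type*} [Group W] {cs : CoxeterSystem (CoxeterMatrix.B 2) W} {Y : Type*} [Group Y]
  {T : Subgroup Y} {n : Fin 2 → Y} (hN : NSys (CoxeterMatrix.B 2) T n) {τ : Y →* (V ≃ₗ[K] V)}
  (hT : ∀ t ∈ T, Mono Fr (τ t) id) (hn : ∀ i, Mono Fr (τ (n i)) (Cfsg.Agent.Nodes.TypeC.sg i))
include hT hn

theorem exists_pi (w : W) : ∃ π : Fin 2 × Bool → Fin 2 × Bool, H905.Md.Act cs w π ∧ (∀ x, π (ng x) = ng (π x)) ∧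
    Function.Injective π ∧ ∀ k : Y, Rp cs hN w k → Mono Fr (τ k) π := by
  have hmain := cs.simple_induction_left (p := fun w => ∃ π : Fin 2 × Bool → Fin 2 × Bool, H905.Md.Act cs w π ∧
    (∀ x, π (ng x) = ng (π x)) ∧ Function.Injective π ∧
    ∀ k : Y, Rp cs hN w k → Mono Fr (τ k) π) w
  refine hmain ?_ fun w i ih => ?_
  · refine ⟨id, H905.Md.Act.one, fun _ => rfl, Function.injective_id, fun k hk => ?_⟩
    exact hT _ hk.mem_of_one
  · obtain ⟨π, h1, h2, h3, h4⟩ := ih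
    refine ⟨fun x => sg i (π x), (H905.Md.act_simple i).mul h1, fun x => ?_, fun x y hxy => ?_, fun k hk => ?_⟩
    · change sg i (π (ng x)) = _
      rw [h2, sg_ng]
    · apply h3
      have h5 : sg i (sg i (π x)) = sg i (sg i (π y)) := congrArg (sg i) hxy
      rwa [sg_sg, sg_sg] at h5
    · have h5 := (rp_simple cs hN i).inv.mul hk
      rw [inv_mul_cancel_left] at h5
      have h6 := (hn i).mul (h4 _ h5)
      rwa [← map_mul, mul_inv_cancel_left] at h6

omit hT hn in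
theorem rep_coord (w : W) (x : Fin 2 → ℤ) (i : Fin 2) : rep cs (isCartan 2) w x i =
    x 0 * rep cs (isCartan 2) w (sr 0) i + x 1 * rep cs (isCartan 2) w (sr 1) i := by
  have h1 : x = x 0 • sr 0 + x 1 • sr 1 := by
    funext j
    fin_cases j <;> simp [sr]
  conv_lhs => rw [h1]
  rw [map_add, map_smul, map_smul]
  rfl

omit hT hn in
theorem act_sr {w : W} {π : Fin 2 × Bool → Fin 2 × Bool} (h : H905.Md.Act cs w π) (i : Fin 2) :
    Cfsg.Agent.Nodes.TypeC.ee (rep cs (isCartan 2) w (sr i)) = wt (π (i, true)) + wt (π (nx i)) :=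
  h _ _ _ (ee_sr i)

/-- the second coordinate function -/
theorem of_F2 {w : W} {k : Y} (hk : Rp cs hN w k) (h : F2 Fr (τ k) ≠ 0) (x : Fin 2 → ℤ) :
    rep cs (isCartan 2) w x 1 = x 1 := by
  obtain ⟨π, h1, h2, h3, h4⟩ := exists_pi hN hT hn w
  obtain ⟨l, hl, e⟩ := h4 k hk (0, true)
  obtain ⟨l', hl', e'⟩ := h4 k hk (1, true)
  have h5 : (π (0, true) = (0, true) ∧ π (1, true) = (1, true)) ∨
      (π (0, true) = (1, true) ∧ π (1, true) = (0, true)) := by
    by_contra hne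
    apply h
    unfold F2
    rw [e, e']
    simp only [H.smul_left, h_b_false]
    by_cases c1 : π (0, true) = (0, true)
    · have c2 : ¬ π (1, true) = (1, true) := fun c => hne (Or.inl ⟨c1, c⟩)
      have c3 : ¬ π (0, true) = (1, true) := by rw [c1]; simp
      rw [if_neg c2, if_neg c3]
      simp
    · rw [if_neg c1]
      by_cases c2 : π (0, true) = (1, true)
      · have c3 : ¬ π (1, true) = (0, true) := fun c => hne (Or.inr ⟨c2, c⟩)
        rw [if_neg c3]
        simp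
      · rw [if_neg c2]
        simp
  have key : ∀ y : Fin 2 → ℤ, 2 * y 1 = Cfsg.Agent.Nodes.TypeC.ee y 0 + Cfsg.Agent.Nodes.TypeC.ee y 1 := by
    intro y
    rw [ee0, ee1]; ring
  have h9 : (nx (0 : Fin 2)) = ng (1, true) := rfl
  have h10 : (nx (1 : Fin 2)) = (1, true) := rfl
  have h11 := key (rep cs (isCartan 2) w (sr 0))
  have h12 := key (rep cs (isCartan 2) w (sr 1))
  rw [act_sr h1, h9, h2, wt_ng] at h11
  rw [act_sr h1, h10] at h12
  rw [rep_coord]
  rcases h5 with ⟨c1, c2⟩ | ⟨c1, c2⟩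
  · rw [c1, c2] at h11
    rw [c2] at h12
    simp [wt_apply] at h11 h12
    rw [h11]
    have h13 : rep cs (isCartan 2) w (sr 1) 1 = 1 := by omega
    rw [h13]
    ring
  · rw [c1, c2] at h11
    rw [c2] at h12
    simp [wt_apply] at h11 h12
    rw [h11]
    have h13 : rep cs (isCartan 2) w (sr 1) 1 = 1 := by omega
    rw [h13]
    ring

end Pi

end Cfsg.Agent.H269.Ppd
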