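import Cfsg.Agent.H875.SSet
import Mathlib.LinearAlgebra.Vandermonde
import Mathlib.LinearAlgebra.Matrix.NonsingularInverse
import Mathlib.LinearAlgebra.Dual.Lemmas

/-!
# Ranks of kernels given by monomials (helper269)

* `exists_dual` : the dual system of the monomials `x ^ m`, `m < N`, on `N` points;
* `rank_ge` : `φ_A (v_B) = ∑ C_a f_a(A) g_a(B)` with independent `f`, `g`: the number of `a` with `C_a ≠ 0` is at most
  `dim V`;
* `rank_pow` : the kernel `d (z + z') ^ c` on a finite field;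
* **`rank_quad`** : the kernel `d (x x' + (z + z') ^ (Q + 1)) ^ c`: `∑_{e ∈ SS p c} |SS p e| ^ 2 ≤ dim V`.
-/

set_option autoImplicit false
set_option linter.unusedSectionVars false

namespace Cfsg.Agent.H269.Ppd

open Cfsg.Agent.H875.Fn

section general

variable {k : Type*} [Field k] {V : Type*} [AddCommGroup V] [Module k V]

/-- the dual system of the monomials -/
theorem exists_dual {S : Type*} [Fintype S] {x : S → k} (hx : Function.Injective x) {N : ℕ}
    (hN : Fintype.card S = N) :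
    ∃ l : ℕ → S → k, ∀ i, i < N → ∀ m, m < N → ∑ s, l i s * x s ^ m = if i = m then 1 else 0 := by
  classical
  let e : S ≃ Fin N := Fintype.equivFinOfCardEq hN
  let M : Matrix (Fin N) (Fin N) k := Matrix.vandermonde fun a => x (e.symm a)
  have hdet : IsUnit M.det := by
    rw [isUnit_iff_ne_zero]
    exact Matrix.det_vandermonde_ne_zero_iff.2 (hx.comp e.symm.injective)
  obtain ⟨M', hM'⟩ : ∃ M' : Matrix (Fin N) (Fin N) k, M' * M = 1 := ⟨M⁻¹, Matrix.nonsing_inv_mul M hdet⟩
  refine ⟨fun i s => if h : i < N then M' ⟨i, h⟩ (e s) else 0, fun i hi m hm => ?_⟩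
  have h1 := congrFun (congrFun hM' ⟨i, hi⟩) ⟨m, hm⟩
  rw [Matrix.mul_apply, Matrix.one_apply] at h1
  simp only [Fin.mk.injEq] at h1
  rw [← h1, ← e.sum_comp]
  refine Finset.sum_congr rfl fun s _ => ?_
  simp only [hi, dif_pos]
  congr 1
  change _ = (Matrix.vandermonde fun a => x (e.symm a)) (e s) ⟨m, hm⟩
  rw [Matrix.vandermonde_apply, e.symm_apply_apply]

/-- biorthogonal systems -/
theorem card_le_of_biorth [FiniteDimensional k V] {κ : Type*} [Fintype κ] (Φ : κ → Module.Dual k V) (w : κ → V)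
    (d : κ → k) (hd : ∀ a, d a ≠ 0) (h0 : ∀ a b, a ≠ b → Φ a (w b) = 0) (h1 : ∀ a, Φ a (w a) = d a) :
    Fintype.card κ ≤ Module.finrank k V := by
  have hli : LinearIndependent k w := by
    rw [Fintype.linearIndependent_iff]
    intro g hg a
    have h2 := congrArg (Φ a) hg
    rw [map_sum, map_zero, Finset.sum_eq_single a] at h2
    · rw [map_smul, smul_eq_mul, h1] at h2
      exact (mul_eq_zero.1 h2).resolve_right (hd a)
    · intro b _ hb
      rw [map_smul, h0 a b hb.symm, smul_zero]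
    · intro h; exact absurd (Finset.mem_univ a) h
  exact hli.fintype_card_le_finrank

/-- **the rank of a sum of independent products** -/
theorem rank_ge [FiniteDimensional k V] {SA SB ι : Type*} [Fintype SA] [Fintype SB] [DecidableEq ι]
    {φ : SA → Module.Dual k V}
    {v : SB → V} {τ : Finset ι} {C : ι → k} {f f' : ι → SA → k} {g g' : ι → SB → k}
    (h : ∀ A B, φ A (v B) = ∑ a ∈ τ, C a * f a A * g a B)
    (hf : ∀ a ∈ τ, ∀ b ∈ τ, ∑ A, f' a A * f b A = if a = b then 1 else 0)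
    (hg : ∀ a ∈ τ, ∀ b ∈ τ, ∑ B, g' a B * g b B = if a = b then 1 else 0) {σ : Finset ι} (hσ : σ ⊆ τ)
    (hC : ∀ a ∈ σ, C a ≠ 0) : σ.card ≤ Module.finrank k V := by
  classical
  have key : ∀ a ∈ τ, ∀ b ∈ τ, (∑ A, f' a A • φ A : Module.Dual k V) (∑ B, g' b B • v B) = if a = b then C a else 0 := by
    intro a ha b hb
    have h1 : (∑ A, f' a A • φ A : Module.Dual k V) (∑ B, g' b B • v B) =
        ∑ A, ∑ B, ∑ c ∈ τ, C c * (f' a A * f c A) * (g' b B * g c B) := by
      rw [LinearMap.sum_apply]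
      refine Finset.sum_congr rfl fun A _ => ?_
      rw [LinearMap.smul_apply, map_sum, Finset.smul_sum]
      refine Finset.sum_congr rfl fun B _ => ?_
      rw [map_smul, h, smul_eq_mul, smul_eq_mul, Finset.mul_sum, Finset.mul_sum]
      refine Finset.sum_congr rfl fun c _ => ?_
      ring
    rw [h1]
    have h2 : ∑ A, ∑ B, ∑ c ∈ τ, C c * (f' a A * f c A) * (g' b B * g c B) =
        ∑ c ∈ τ, C c * (∑ A, f' a A * f c A) * (∑ B, g' b B * g c B) := by
      calc ∑ A, ∑ B, ∑ c ∈ τ, C c * (f' a A * f c A) * (g' b B * g c B)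
          = ∑ A, ∑ c ∈ τ, ∑ B, C c * (f' a A * f c A) * (g' b B * g c B) :=
            Finset.sum_congr rfl fun A _ => Finset.sum_comm
        _ = ∑ c ∈ τ, ∑ A, ∑ B, C c * (f' a A * f c A) * (g' b B * g c B) := Finset.sum_comm
        _ = _ := by
            refine Finset.sum_congr rfl fun c _ => ?_
            rw [mul_assoc, Finset.sum_mul_sum, Finset.mul_sum]
            refine Finset.sum_congr rfl fun A _ => ?_
            rw [Finset.mul_sum]
            exact Finset.sum_congr rfl fun B _ => by ring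
    rw [h2, Finset.sum_eq_single a]
    · rw [hf a ha a ha, if_pos rfl, hg b hb a ha]
      by_cases hab : a = b
      · rw [if_pos hab.symm, if_pos hab]; ring
      · rw [if_neg (Ne.symm hab), if_neg hab]; ring
    · intro c hc hca
      rw [hf a ha c hc, if_neg (Ne.symm hca)]; ring
    · intro hna; exact absurd ha hna
  have h3 := card_le_of_biorth (κ := σ) (fun a => ∑ A, f' a A • φ A) (fun a => ∑ B, g' a B • v B) (fun a => C a)
    (fun a => hC a a.2) (fun a b hab => by
      rw [key a (hσ a.2) b (hσ b.2), if_neg (fun e => hab (Subtype.ext e))])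
    (fun a => by rw [key a (hσ a.2) a (hσ a.2), if_pos rfl])
  rwa [Fintype.card_coe] at h3

variable {p : ℕ} [hp : Fact p.Prime] [CharP k p]

theorem choose_ne {r m : ℕ} (hm : m ∈ SS p r) : ((r.choose m : ℕ) : k) ≠ 0 := by
  rw [Ne, CharP.cast_eq_zero_iff k p]
  exact mem_SS'.1 hm

include hp in
/-- **the kernel `(z + z') ^ c`** -/
theorem rank_pow [FiniteDimensional k V] {L : Type*} [Fintype L] {z : L → k} (hz : Function.Injective z) {c : ℕ}
    (hc : c < Fintype.card L) {φ : L → Module.Dual k V} {v : L → V} {d : k} (hd : d ≠ 0)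
    (h : ∀ s t, φ s (v t) = d * (z s + z t) ^ c) : (SS p c).card ≤ Module.finrank k V := by
  classical
  obtain ⟨l, hl⟩ := exists_dual hz rfl
  refine rank_ge (τ := Finset.range (c + 1)) (C := fun m => d * (c.choose m : ℕ)) (f := fun m s => z s ^ m)
    (g := fun m s => z s ^ (c - m)) (f' := l) (g' := fun m => l (c - m)) (φ := φ) (v := v) (fun s t => ?_)
    (fun a ha b hb => ?_) (fun a ha b hb => ?_) (σ := SS p c) (fun m hm => ?_) (fun m hm => ?_)
  · rw [h, add_pow, Finset.mul_sum]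
    exact Finset.sum_congr rfl fun m _ => by ring
  · rw [Finset.mem_range] at ha hb
    exact hl a (by omega) b (by omega)
  · rw [Finset.mem_range] at ha hb
    rw [hl _ (by omega) _ (by omega)]
    by_cases hab : a = b
    · rw [if_pos hab, if_pos (by rw [hab])]
    · rw [if_neg hab, if_neg (by omega)]
  · rw [Finset.mem_range, Nat.lt_succ_iff]
    exact (mem_SS.1 hm).1
  · exact mul_ne_zero hd (choose_ne hm)

theorem card_SS_mul {t e : ℕ} (he : e < p ^ t) : (SS p ((p ^ t + 1) * e)).card = (SS p e).card ^ 2 := by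
  have h1 : (p ^ t + 1) * e = e + p ^ t * e := by ring
  rw [h1, card_SS_add he (Dvd.intro _ rfl), card_SS_pow_mul, sq]

include hp in
/-- **the kernel `(x x' + (z + z') ^ (Q + 1)) ^ c`** -/
theorem rank_quad [FiniteDimensional k V] {S L : Type*} [Fintype S] [Fintype L] {x : S → k}
    (hx : Function.Injective x) {z : L → k} (hz : Function.Injective z) {t c : ℕ} (hS : Fintype.card S = p ^ t)
    (hL : Fintype.card L = (p ^ t) ^ 2) (hc : c < p ^ t) {φ : S × L → Module.Dual k V} {v : S × L → V} {d : k}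
    (hd : d ≠ 0)
    (h : ∀ A B : S × L, φ A (v B) = d * (x A.1 * x B.1 + (z A.2 + z B.2) ^ (p ^ t + 1)) ^ c) :
    ∑ e ∈ SS p c, (SS p e).card ^ 2 ≤ Module.finrank k V := by
  classical
  set Q := p ^ t with hQ
  obtain ⟨l, hl⟩ := exists_dual hx hS
  obtain ⟨μ, hμ⟩ := exists_dual hz hL
  have hb : ∀ e, e ≤ c → (Q + 1) * e < Q ^ 2 := by
    intro e he
    have h1 : e + 1 ≤ Q := by omega
    nlinarith
  -- the terms: `(e, m)`, `e ≤ c`, `m ≤ (Q + 1) e`
  let τ : Finset (ℕ × ℕ) := (Finset.range (c + 1)).biUnion fun e => (Finset.range ((Q + 1) * e + 1)).image fun m => (e, m)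
  have hτ : ∀ a : ℕ × ℕ, a ∈ τ ↔ a.1 ≤ c ∧ a.2 ≤ (Q + 1) * a.1 := by
    rintro ⟨e, m⟩
    simp only [τ, Finset.mem_biUnion, Finset.mem_range, Finset.mem_image, Prod.mk.injEq]
    constructor
    · rintro ⟨e', he', m', hm', rfl, rfl⟩
      exact ⟨by omega, by omega⟩
    · rintro ⟨h1, h2⟩
      exact ⟨e, by omega, m, by omega, rfl, rfl⟩
  let σ : Finset (ℕ × ℕ) := (SS p c).biUnion fun e => (SS p ((Q + 1) * e)).image fun m => (e, m)
  have hσ : ∀ a : ℕ × ℕ, a ∈ σ ↔ a.1 ∈ SS p c ∧ a.2 ∈ SS p ((Q + 1) * a.1) := by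
    rintro ⟨e, m⟩
    simp only [σ, Finset.mem_biUnion, Finset.mem_image, Prod.mk.injEq]
    constructor
    · rintro ⟨e', he', m', hm', rfl, rfl⟩
      exact ⟨he', hm'⟩
    · rintro ⟨h1, h2⟩
      exact ⟨e, h1, m, h2, rfl, rfl⟩
  have hcard : σ.card = ∑ e ∈ SS p c, (SS p e).card ^ 2 := by
    rw [Finset.card_biUnion]
    · refine Finset.sum_congr rfl fun e he => ?_
      rw [Finset.card_image_of_injective _ (fun a b hab => (Prod.mk.inj hab).2)]
      exact card_SS_mul (by have := (mem_SS.1 he).1; omega)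
    · intro e _ e' _ hne
      rw [Function.onFun, Finset.disjoint_left]
      intro a ha ha'
      rw [Finset.mem_image] at ha ha'
      obtain ⟨m, -, rfl⟩ := ha
      obtain ⟨m', -, h2⟩ := ha'
      exact hne (Prod.mk.inj h2).1.symm
  rw [← hcard]
  refine rank_ge (τ := τ) (C := fun a => d * ((c.choose a.1 : ℕ) * (((Q + 1) * a.1).choose a.2 : ℕ)))
    (f := fun a A => x A.1 ^ (c - a.1) * z A.2 ^ a.2)
    (g := fun a B => x B.1 ^ (c - a.1) * z B.2 ^ ((Q + 1) * a.1 - a.2))
    (f' := fun a A => l (c - a.1) A.1 * μ a.2 A.2)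
    (g' := fun a B => l (c - a.1) B.1 * μ ((Q + 1) * a.1 - a.2) B.2) (φ := φ) (v := v) (fun A B => ?_)
    (fun a ha b hb' => ?_) (fun a ha b hb' => ?_) (fun a ha => ?_) (fun a ha => ?_)
  · rw [h, Finset.sum_biUnion]
    · rw [add_comm (x A.1 * x B.1), add_pow, Finset.mul_sum]
      refine Finset.sum_congr rfl fun e he => ?_
      rw [Finset.sum_image (fun a _ b _ hab => (Prod.mk.inj hab).2), ← pow_mul, add_pow, Finset.sum_mul,
        Finset.sum_mul, Finset.mul_sum]
      refine Finset.sum_congr rfl fun m _ => ?_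
      rw [mul_pow]
      ring
    · intro e _ e' _ hne
      rw [Function.onFun, Finset.disjoint_left]
      intro a ha ha'
      rw [Finset.mem_image] at ha ha'
      obtain ⟨m, -, rfl⟩ := ha
      obtain ⟨m', -, h2⟩ := ha'
      exact hne (Prod.mk.inj h2).1.symm
  · rw [hτ] at ha hb'
    have h1 : ∑ A : S × L, l (c - a.1) A.1 * μ a.2 A.2 * (x A.1 ^ (c - b.1) * z A.2 ^ b.2) =
        (∑ s, l (c - a.1) s * x s ^ (c - b.1)) * (∑ s, μ a.2 s * z s ^ b.2) := by
      rw [Fintype.sum_mul_sum, Fintype.sum_prod_type]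
      exact Finset.sum_congr rfl fun s _ => Finset.sum_congr rfl fun s' _ => by ring
    have h2 := hb _ ha.1
    have h3 := hb _ hb'.1
    rw [h1, hl _ (by omega) _ (by omega), hμ _ (by omega) _ (by omega)]
    by_cases hab : a = b
    · rw [if_pos hab, if_pos (by rw [hab]), if_pos (by rw [hab]), one_mul]
    · rw [if_neg hab]
      by_cases h4 : a.1 = b.1
      · rw [if_neg (fun h5 => hab (Prod.ext h4 h5)), mul_zero]
      · rw [if_neg (by omega), zero_mul]
  · rw [hτ] at ha hb'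
    have h1 : ∑ A : S × L, l (c - a.1) A.1 * μ ((Q + 1) * a.1 - a.2) A.2 *
        (x A.1 ^ (c - b.1) * z A.2 ^ ((Q + 1) * b.1 - b.2)) =
        (∑ s, l (c - a.1) s * x s ^ (c - b.1)) * (∑ s, μ ((Q + 1) * a.1 - a.2) s * z s ^ ((Q + 1) * b.1 - b.2)) := by
      rw [Fintype.sum_mul_sum, Fintype.sum_prod_type]
      exact Finset.sum_congr rfl fun s _ => Finset.sum_congr rfl fun s' _ => by ring
    have h2 := hb _ ha.1
    have h3 := hb _ hb'.1
    rw [h1, hl _ (by omega) _ (by omega), hμ _ (by omega) _ (by omega)]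
    by_cases hab : a = b
    · rw [if_pos hab, if_pos (by rw [hab]), if_pos (by rw [hab]), one_mul]
    · rw [if_neg hab]
      by_cases h4 : a.1 = b.1
      · have h5 : ¬ (Q + 1) * a.1 - a.2 = (Q + 1) * b.1 - b.2 := by
          intro h5
          have h6 := ha.2
          have h7 := hb'.2
          rw [h4] at h5 h6
          exact hab (Prod.ext h4 (by omega))
        rw [if_neg h5, mul_zero]
      · rw [if_neg (by omega), zero_mul]
  · rw [hσ] at ha
    rw [hτ]
    exact ⟨(mem_SS.1 ha.1).1, (mem_SS.1 ha.2).1⟩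
  · rw [hσ] at ha
    exact mul_ne_zero hd (mul_ne_zero (choose_ne ha.1) (choose_ne ha.2))

end general

/-! ### the numbers -/

section numbers

variable {p : ℕ} [hp : Fact p.Prime]

include hp in
/-- `c` is no power of `p`: at least 14 -/
theorem fourteen_le {c : ℕ} (h : 3 ≤ (SS p c).card) : 14 ≤ ∑ e ∈ SS p c, (SS p e).card ^ 2 := by
  have hc0 : c ≠ 0 := by
    rintro rfl
    rw [card_SS_lt hp.out.pos] at h
    omega
  obtain ⟨e, he, he0, hec⟩ : ∃ e ∈ SS p c, e ≠ 0 ∧ e ≠ c := by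
    by_contra hcon
    push Not at hcon
    have h1 : SS p c ⊆ {0, c} := by
      intro m hm
      rw [Finset.mem_insert, Finset.mem_singleton]
      by_cases hm0 : m = 0
      · exact Or.inl hm0
      · exact Or.inr (hcon m hm hm0)
    have h2 := (Finset.card_le_card h1).trans Finset.card_le_two
    omega
  have h1 : ({0, e, c} : Finset ℕ) ⊆ SS p c := by
    intro m hm
    rw [Finset.mem_insert, Finset.mem_insert, Finset.mem_singleton] at hm
    rcases hm with rfl | rfl | rfl
    · exact zero_mem_SS _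
    · exact he
    · exact self_mem_SS _
  have h2 := Finset.sum_le_sum_of_subset (f := fun e => (SS p e).card ^ 2) h1
  have h3 : ∑ e ∈ ({0, e, c} : Finset ℕ), (SS p e).card ^ 2 = (SS p 0).card ^ 2 + ((SS p e).card ^ 2 + (SS p c).card ^ 2) := by
    rw [Finset.sum_insert, Finset.sum_insert, Finset.sum_singleton]
    · rw [Finset.mem_singleton]; exact hec
    · rw [Finset.mem_insert, Finset.mem_singleton]
      rintro (h | h)
      · exact he0 h.symm
      · exact hc0 h.symm
  have h4 := card_SS_pos (p := p) 0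
  have h5 := two_le_card_SS (p := p) he0
  have h6 : 1 ≤ (SS p 0).card ^ 2 := Nat.one_le_pow _ _ h4
  have h7 : 2 ^ 2 ≤ (SS p e).card ^ 2 := Nat.pow_le_pow_left h5 2
  have h8 : 3 ^ 2 ≤ (SS p c).card ^ 2 := Nat.pow_le_pow_left h 2
  rw [h3] at h2
  omega

include hp in
/-- two blocks: at least 25 -/
theorem twentyfive_le {a r₀ : ℕ} (h : r₀ < p ^ a) (h0 : r₀ ≠ 0) :
    25 ≤ ∑ e ∈ SS p (r₀ * ∑ i ∈ Finset.range 2, (p ^ a) ^ i), (SS p e).card ^ 2 := by
  have hc : r₀ * ∑ i ∈ Finset.range 2, (p ^ a) ^ i = r₀ + p ^ a * r₀ := by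
    rw [Finset.sum_range_succ, Finset.sum_range_one]; ring
  have hcard : (SS p (r₀ + p ^ a * r₀)).card = (SS p r₀).card ^ 2 := by
    have := card_SS_geom h 2
    rwa [hc] at this
  rw [hc]
  have hpa : 1 ≤ p ^ a := Nat.one_le_pow _ _ hp.out.pos
  have hr1 : r₀ < p ^ a * r₀ := by
    have h2 : 2 ≤ p ^ a := by omega
    nlinarith [Nat.pos_of_ne_zero h0]
  have hm1 : r₀ ∈ SS p (r₀ + p ^ a * r₀) := by
    rw [mem_SS_add h (Dvd.intro _ rfl), Nat.mod_eq_of_lt h, Nat.sub_self]
    exact ⟨self_mem_SS _, zero_mem_SS _⟩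
  have hm2 : p ^ a * r₀ ∈ SS p (r₀ + p ^ a * r₀) := by
    rw [mem_SS_add h (Dvd.intro _ rfl), Nat.mul_mod_right, Nat.sub_zero]
    exact ⟨zero_mem_SS _, self_mem_SS _⟩
  have h1 : ({0, r₀, p ^ a * r₀, r₀ + p ^ a * r₀} : Finset ℕ) ⊆ SS p (r₀ + p ^ a * r₀) := by
    intro m hm
    rw [Finset.mem_insert, Finset.mem_insert, Finset.mem_insert, Finset.mem_singleton] at hm
    rcases hm with rfl | rfl | rfl | rfl
    · exact zero_mem_SS _
    · exact hm1
    · exact hm2
    · exact self_mem_SS _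
  have h2 := Finset.sum_le_sum_of_subset (f := fun e => (SS p e).card ^ 2) h1
  rw [Finset.sum_insert, Finset.sum_insert, Finset.sum_insert, Finset.sum_singleton] at h2
  · have h4 := card_SS_pos (p := p) 0
    have h5 := two_le_card_SS (p := p) h0
    have h6 : 1 ≤ (SS p 0).card ^ 2 := Nat.one_le_pow _ _ h4
    have h7 : 2 ^ 2 ≤ (SS p r₀).card ^ 2 := Nat.pow_le_pow_left h5 2
    have h8 : (SS p (p ^ a * r₀)).card = (SS p r₀).card := card_SS_pow_mul _ _
    rw [hcard, h8] at h2
    have h9 : (2 ^ 2) ^ 2 ≤ ((SS p r₀).card ^ 2) ^ 2 := Nat.pow_le_pow_left h7 2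
    omega
  · rw [Finset.mem_singleton]; omega
  · rw [Finset.mem_insert, Finset.mem_singleton]; omega
  · rw [Finset.mem_insert, Finset.mem_insert, Finset.mem_singleton]; omega

include hp in
/-- `t` blocks: at least `4 ^ t` -/
theorem four_pow_le {a r₀ : ℕ} (h : r₀ < p ^ a) (h0 : r₀ ≠ 0) (t : ℕ) :
    4 ^ t ≤ ∑ e ∈ SS p (r₀ * ∑ i ∈ Finset.range t, (p ^ a) ^ i), (SS p e).card ^ 2 := by
  have h1 := Finset.single_le_sum (f := fun e => (SS p e).card ^ 2) (fun _ _ => Nat.zero_le _)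
    (self_mem_SS (p := p) (r₀ * ∑ i ∈ Finset.range t, (p ^ a) ^ i))
  refine le_trans ?_ h1
  simp only [card_SS_geom h t]
  have h2 : (4 : ℕ) ^ t = (2 ^ t) ^ 2 := by rw [← pow_mul, mul_comm, pow_mul]; norm_num
  rw [h2]
  exact Nat.pow_le_pow_left (Nat.pow_le_pow_left (two_le_card_SS h0) t) 2

end numbers

end Cfsg.Agent.H269.Ppd
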