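import Cfsg.Agent.H269.Ppd.Siegel
import Cfsg.Agent.H650.Ppd.Edge
import Cfsg.Agent.H925.NatTor
import Cfsg.Agent.H62.FrameSL
import Cfsg.Agent.H61.SUCross

/-!
# The groups `SU_4(q)`: rank one groups, torus, realisation (helper269)

`W` a Witt frame of rank two with `V0 = ⊥` of the hermitian space of dimension `N`.

* `node_zero`, `node_one` : `SL_2(K)` and `SL_2(q)` at the two nodes (`Nd` of helper650);
* `chi_eq` : `χ(t) = j(F2 t) ^ c₂` on the torus if `0 ∈ J`;
* `real` : the realisation.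
-/

set_option autoImplicit false
set_option linter.unusedSectionVars false
set_option linter.style.haveILetI false

namespace Cfsg.Agent.H269.Ppd

open Matrix (SpecialLinearGroup)
open CoxeterSystem Cfsg.Agent.ChevalleyStructure.CoxeterGeom Cfsg.Agent.Tits.Roots Cfsg.Agent.Nodes.TypeC
open Cfsg.Agent.Nodes Cfsg.Agent.Nodes.Comb Cfsg.Agent.Nodes.Reps Cfsg.Agent.Nodes.WittRoot Cfsg.Agent.Nodes.BNOf
open Cfsg.Agent.Nodes.WittRGD Cfsg.Agent.Nodes.RGDLib Cfsg.Agent.Nodes.OppDec Cfsg.Agent.Nodes.Bruhat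
open Cfsg.Agent.Omega.CR Cfsg.Agent.Omega.FOne.Lift.Sd Cfsg.Agent.Nodes.StabComb Cfsg.Agent.Tits.Core
open Cfsg.Agent.Tits.Exchange Cfsg.Agent.H905.Md Cfsg.Agent.KFacts.RgdOpp
open Cfsg.Agent.TitsThree Cfsg.Agent.TitsThree.Siegel Cfsg.Agent.TitsThree.SiegelGen
  Cfsg.Agent.TitsThree.WittFrame Cfsg.Agent.TitsThree.WittWeyl Cfsg.Agent.TitsThree.FrameCN
  Cfsg.Agent.TitsThree.WBridge Cfsg.Agent.TitsThree.KSideU Cfsg.Agent.TitsThree.KSideUDesc
open Cfsg.Agent.Nodes.WittAll (AmbT rgdC_model)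
open Cfsg.Agent.Nodes.WittU (amb_U exists_adm)
open Cfsg.Agent.LieClassical.HermBasic
open Cfsg.Agent.H61.SUCross (modelSU T_eq X_eq Lv_eq Nv_le exists_delta)
open Cfsg.Agent.H61.SUNode (Nv)
open Cfsg.Agent.H650.Ppd (Nd)
open Cfsg.Agent.H62.FrameSL (phiS phiS_up phiS_lo phiS_e phiS_e' phiS_range phiS_apply linS_apply)
open Cfsg.Agent.H911.SLTwo (U Lo hh)
open Cfsg.Agent.Phan (fixedField mem_fixedField card_fixedField)
open Cfsg

variable {K : Type} [Field K] [Fintype K] {q N : ℕ} {hK : Fintype.card K = q ^ 2} (hN : 3 ≤ N)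
  (W : WFrame (PU hK N) 2)

theorem h01 : (0 : Fin 2) ≠ 1 := by decide

section lift

variable {A : Type*} [Group A]

/-- lift of a homomorphism into the isometries to `SU` -/
noncomputable def liftSU (f : A →* ((Fin N → K) ≃ₗ[K] (Fin N → K))) (hf : ∀ a, f a ∈ IU K q N) : A →* SU N K q :=
  (ofRange K q N).toMonoidHom.comp (f.codRestrict (IU K q N) hf)

theorem toLin_liftSU (f : A →* ((Fin N → K) ≃ₗ[K] (Fin N → K))) (hf : ∀ a, f a ∈ IU K q N) (a : A) :
    toLin K q N (liftSU f hf a) = f a := toLin_ofRange _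

end lift

theorem mem_X4 {x : Fin 2 → ℤ} {y : SU N K q} :
    y ∈ WittModel.X (modelSU hK hN W) x ↔ toLin K q N y ∈ rg (toFrame W) x := by
  rw [X_eq]
  rfl

theorem mem_T4 {y : SU N K q} :
    y ∈ WittModel.T (modelSU hK hN W) ↔ toLin K q N y ∈ Tor (toFrame W) (IU K q N) := by
  rw [T_eq]
  rfl

/-! ### the first node -/

theorem rg_zero : rg (toFrame W) (sr (0 : Fin 2)) = XG (toFrame W) (0, true) (1, false) := by
  have h4 : (nx (0 : Fin 2)) = (1, false) := rfl
  have h5 : ((0, true) : Fin 2 × Bool).1 ≠ ((1, false) : Fin 2 × Bool).1 := h01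
  rw [rg_sr, h4, PG_ne _ h5]

theorem rg_zero' : rg (toFrame W) (-sr (0 : Fin 2)) = XG (toFrame W) (1, true) (0, false) := by
  have h4 : (nx (0 : Fin 2)) = (1, false) := rfl
  have h5 : ((0, true) : Fin 2 × Bool).1 ≠ ((1, false) : Fin 2 × Bool).1 := h01
  rw [rg_neg_sr, h4, PG_ne _ (a := ng (0, true)) (b := ng (1, false)) h5,
    XG_swap _ (a := ng (0, true)) (b := ng (1, false)) h5]
  rfl

theorem phiS_mem (g : SpecialLinearGroup (Fin 2) K) : phiS (toFrame W) h01 g ∈ IU K q N := by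
  have h1 : phiS (toFrame W) h01 g ∈ (phiS (toFrame W) h01).range := ⟨g, rfl⟩
  rw [phiS_range, ← rg_zero, ← rg_zero'] at h1
  exact Nv_le W 0 h1

/-- `SL_2(K)` at the first node -/
noncomputable def sig0 : SpecialLinearGroup (Fin 2) K →* SU N K q := liftSU (phiS (toFrame W) h01) (phiS_mem W)

theorem toLin_sig0 (g : SpecialLinearGroup (Fin 2) K) : toLin K q N (sig0 W g) = phiS (toFrame W) h01 g :=
  toLin_liftSU _ _ g

theorem phiS_hh_mono (s : Kˣ) : Mono (toFrame W) (phiS (toFrame W) h01 (hh s)) id := by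
  have e00 : (hh s).1 0 0 = (s : K) := rfl
  have e01 : (hh s).1 0 1 = 0 := rfl
  have e10 : (hh s).1 1 0 = 0 := rfl
  have e11 : (hh s).1 1 1 = ((s⁻¹ : Kˣ) : K) := rfl
  rintro ⟨i, b⟩
  cases b
  · fin_cases i
    · refine ⟨(HU hK N).σ ((s⁻¹ : Kˣ) : K), by simp, ?_⟩
      change phiS (toFrame W) h01 (hh s) ((toFrame W).b (0, false)) = _ • (toFrame W).b (0, false)
      rw [phiS_apply, linS_apply, e00, e01, e10, e11]
      simp only [(toFrame W).hb]
      have hε := (HU hK N).ε_ne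
      simp [hε]
      module
    · refine ⟨(HU hK N).σ (s : K), by simp, ?_⟩
      change phiS (toFrame W) h01 (hh s) ((toFrame W).b (1, false)) = _ • (toFrame W).b (1, false)
      rw [phiS_apply, linS_apply, e00, e01, e10, e11]
      simp only [(toFrame W).hb]
      have hε := (HU hK N).ε_ne
      simp [hε]
      module
  · fin_cases i
    · refine ⟨s, s.ne_zero, ?_⟩
      change phiS (toFrame W) h01 (hh s) ((toFrame W).b (0, true)) = _ • (toFrame W).b (0, true)
      rw [phiS_e, e00, e10, zero_smul, add_zero]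
    · refine ⟨((s⁻¹ : Kˣ) : K), (s⁻¹).ne_zero, ?_⟩
      change phiS (toFrame W) h01 (hh s) ((toFrame W).b (1, true)) = _ • (toFrame W).b (1, true)
      rw [phiS_e', e01, e11, zero_smul, zero_add]

/-- **the first node** -/
theorem node_zero : Nd (WittModel.T (modelSU hK hN W)) (WittModel.X (modelSU hK hN W)) 0 (sig0 W) where
  up y := by
    rw [mem_X4, rg_zero]
    constructor
    · rintro ⟨t, ht⟩
      refine ⟨t, toLin_injective ?_⟩
      rw [toLin_sig0, ht]
      exact phiS_up (toFrame W) h01 t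
    · rintro ⟨t, rfl⟩
      rw [toLin_sig0]
      exact ⟨t, phiS_up (toFrame W) h01 t⟩
  lo y := by
    rw [mem_X4, rg_zero']
    constructor
    · rintro ⟨t, ht⟩
      refine ⟨t, toLin_injective ?_⟩
      rw [toLin_sig0, ht]
      exact phiS_lo (toFrame W) h01 t
    · rintro ⟨t, rfl⟩
      rw [toLin_sig0]
      exact ⟨t, phiS_lo (toFrame W) h01 t⟩
  tor s := by
    rw [mem_T4, toLin_sig0]
    exact ⟨phiS_mem W _, phiS_hh_mono W s⟩

theorem F2_phiS (g : SpecialLinearGroup (Fin 2) K) : F2 (toFrame W) (phiS (toFrame W) h01 g) = 1 := by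
  have hd : g.1 0 0 * g.1 1 1 - g.1 0 1 * g.1 1 0 = 1 := by
    rw [← Matrix.det_fin_two]; exact g.2
  unfold F2
  rw [phiS_e, phiS_e']
  simp only [HForm.add_left, HForm.smul_left, h_b_false]
  simp
  linear_combination hd

/-! ### the second node -/

section node1

open Cfsg.Agent.H61.LastEven (P2 R2 Ph rel_up rel_lo adm_w adm_c exists_equiv indep)

variable {W}

theorem rg_one : rg (toFrame W) (sr (1 : Fin 2)) = ZG (toFrame W) (1, true) := by
  have h4 : (nx (1 : Fin 2)) = (1, true) := rfl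
  rw [rg_sr, h4, PG_self]

theorem rg_one' : rg (toFrame W) (-sr (1 : Fin 2)) = ZG (toFrame W) (1, false) := by
  have h4 : (nx (1 : Fin 2)) = (1, true) := rfl
  rw [rg_neg_sr, h4]
  exact PG_self _ _

theorem P2_le : P2 W 1 ≤ IU K q N := by
  have h1 : P2 W 1 = Nv (toFrame W) 1 := by
    unfold P2 Nv
    rw [rg_one, rg_one']
  rw [h1]
  exact Nv_le W 1

/-- **the second node** -/
theorem node_one (hV0 : W.V0 = ⊥) {δ : K} (hδ : δ ^ q = -δ) (hδ0 : δ ≠ 0) :
    ∃ σ : SpecialLinearGroup (Fin 2) (fixedField hK) →* SU N K q,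
      Nd (WittModel.T (modelSU hK hN W)) (WittModel.X (modelSU hK hN W)) 1 σ ∧
      (∀ A, R2 W 1 δ (toLin K q N (σ A)) A) ∧ ∀ y, toLin K q N y ∈ P2 W 1 → ∃ A, σ A = y := by
  obtain ⟨e, he⟩ := exists_equiv (i := (1 : Fin 2)) hV0 hδ hδ0
  let f : SpecialLinearGroup (Fin 2) (fixedField hK) →* ((Fin N → K) ≃ₗ[K] (Fin N → K)) :=
    (P2 W 1).subtype.comp e.symm.toMonoidHom
  have hf : ∀ A, f A = (e.symm A : (Fin N → K) ≃ₗ[K] (Fin N → K)) := fun _ => rfl
  have hfR : ∀ A, R2 W 1 δ (f A) A := by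
    intro A
    have h1 := he (e.symm A)
    rwa [e.apply_symm_apply] at h1
  have hfe : ∀ {g}, g ∈ P2 W 1 → ∀ {A}, R2 W 1 δ g A → f A = g := by
    intro g hg A hA
    have h1 : e ⟨g, hg⟩ = A := (he ⟨g, hg⟩).unique (indep hδ0) hA
    rw [hf, ← h1, e.symm_apply_apply]
  have hmem : ∀ A, f A ∈ IU K q N := fun A => P2_le (e.symm A).2
  have htl : ∀ A, toLin K q N (liftSU f hmem A) = f A := fun A => toLin_liftSU _ _ A
  refine ⟨liftSU f hmem, ⟨fun y => ?_, fun y => ?_, fun s => ?_⟩, fun A => ?_, fun y hy => ?_⟩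
  · rw [mem_X4, rg_one]
    constructor
    · rintro ⟨p, hp⟩
      have hc := adm_c hV0 p
      have hk : (p.c * δ⁻¹) ^ q = p.c * δ⁻¹ := by
        rw [mul_pow, inv_pow, hδ, hc]
        field_simp
      refine ⟨⟨p.c * δ⁻¹, hk⟩, toLin_injective ?_⟩
      rw [htl]
      have hZ : toLin K q N y ∈ P2 W 1 := by
        rw [hp]
        exact (le_sup_left : ZG (toFrame W) (1, true) ≤ P2 W 1) ⟨p, rfl⟩
      refine hfe hZ ?_
      rw [hp]
      exact rel_up (adm_w hV0 p) (inv_mul_cancel_right₀ hδ0 _).symm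
    · rintro ⟨t, rfl⟩
      rw [htl]
      have ht : (t : K) ^ q = t := t.2
      let p : (toFrame W).Adm := ⟨0, t * δ, W.V0.zero_mem, by
        rw [ok_iff, herm_zero_left, mul_pow, hδ, ht]; ring⟩
      exact ⟨p, hfe ((le_sup_left : ZG (toFrame W) (1, true) ≤ P2 W 1) ⟨p, rfl⟩) (rel_up rfl rfl)⟩
  · rw [mem_X4, rg_one']
    constructor
    · rintro ⟨p, hp⟩
      have hc := adm_c hV0 p
      have hk : (δ * p.c) ^ q = δ * p.c := by
        rw [mul_pow, hδ, hc]
        ring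
      refine ⟨⟨δ * p.c, hk⟩, toLin_injective ?_⟩
      rw [htl]
      have hZ : toLin K q N y ∈ P2 W 1 := by
        rw [hp]
        exact (le_sup_right : ZG (toFrame W) (1, false) ≤ P2 W 1) ⟨p, rfl⟩
      refine hfe hZ ?_
      rw [hp]
      exact rel_lo (adm_w hV0 p) rfl
    · rintro ⟨t, rfl⟩
      rw [htl]
      have ht : (t : K) ^ q = t := t.2
      let p : (toFrame W).Adm := ⟨0, δ⁻¹ * t, W.V0.zero_mem, by
        rw [ok_iff, herm_zero_left, mul_pow, inv_pow, hδ, ht, inv_neg]; ring⟩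
      exact ⟨p, hfe ((le_sup_right : ZG (toFrame W) (1, false) ≤ P2 W 1) ⟨p, rfl⟩)
        (rel_lo rfl (mul_inv_cancel_left₀ hδ0 _))⟩
  · rw [mem_T4, htl]
    refine ⟨hmem _, ?_⟩
    have hR := hfR (hh s)
    have h1 := hR.fst
    have h2 := hR.snd
    have h3 := hR.fix
    have e00 : (hh s) 0 0 = (s : fixedField hK) := rfl
    have e01 : (hh s) 0 1 = 0 := rfl
    have e10 : (hh s) 1 0 = 0 := rfl
    have e11 : (hh s) 1 1 = ((s⁻¹ : (fixedField hK)ˣ) : fixedField hK) := rfl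
    rw [e00, e10] at h1
    rw [e01, e11] at h2
    simp only [ZeroMemClass.coe_zero, zero_smul, add_zero, zero_add] at h1 h2
    rintro ⟨i, b⟩
    cases b
    · fin_cases i
      · exact ⟨1, one_ne_zero, by
          rw [one_smul]
          exact h3 (W.f 0) ⟨by rw [W.fe]; simp, by rw [W.ff]⟩⟩
      · exact ⟨_, fun h0 => (s⁻¹).ne_zero (Subtype.ext h0), h2⟩
    · fin_cases i
      · exact ⟨1, one_ne_zero, by
          rw [one_smul]
          exact h3 (W.e 0) ⟨by rw [W.ee], by rw [W.ef]; simp⟩⟩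
      · refine ⟨_, fun h0 => s.ne_zero (Subtype.ext h0), ?_⟩
        rw [map_smul, smul_comm] at h1
        exact smul_right_injective _ hδ0 h1
  · rw [htl]
    exact hfR A
  · exact ⟨e ⟨_, hy⟩, toLin_injective (by rw [htl, hf, e.symm_apply_apply])⟩

end node1

/-! ### the torus -/

section torus

open Cfsg.Agent.H61.LastEven (P2 R2 indep)

variable {W}

theorem F2_node_one {δ : K} (hδ0 : δ ≠ 0) {g : (Fin N → K) ≃ₗ[K] (Fin N → K)}
    {A : SpecialLinearGroup (Fin 2) (fixedField hK)} (hR : R2 W 1 δ g A) : F2 (toFrame W) g = (A 0 0 : K) := by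
  have h1 : g ((toFrame W).b (0, true)) = (toFrame W).b (0, true) :=
    hR.fix (W.e 0) ⟨by rw [W.ee], by rw [W.ef]; simp⟩
  have h2 : g ((toFrame W).b (1, true)) = (A 0 0 : K) • (toFrame W).b (1, true) +
      (δ⁻¹ * (A 1 0 : K)) • (toFrame W).b (1, false) := by
    have h3 := hR.fst
    rw [map_smul] at h3
    have h4 : g (W.e 1) = δ⁻¹ • ((A 0 0 : K) • δ • W.e 1 + (A 1 0 : K) • W.f 1) := by
      rw [← h3, inv_smul_smul₀ hδ0]
    change g (W.e 1) = (A 0 0 : K) • W.e 1 + (δ⁻¹ * (A 1 0 : K)) • W.f 1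
    rw [h4, smul_add, smul_comm δ⁻¹ (A 0 0 : K), inv_smul_smul₀ hδ0, smul_smul]
  unfold F2
  rw [h1, h2]
  simp only [HForm.add_left, HForm.smul_left, h_b_false]
  simp

variable {Wg : Type*} [Group Wg] {cs : CoxeterSystem (CoxeterMatrix.B 2) Wg} {p : ℕ} {n : Fin 2 → SU N K q}
  (R : RGD cs (isCartan 2) p (WittModel.T (modelSU hK hN W)) n (WittModel.X (modelSU hK hN W)))
  [Finite Wg] {k E : Type*} [Field k] [AddCommGroup E] [Module k E] {ρ : SU N K q →* Module.End k E}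

/-- **the highest weight** -/
theorem chi_eq (h0 : (0 : Fin 2) ∈ Jx cs (isCartan 2) (WittModel.X (modelSU hK hN W)) ρ)
    {c : E} (hc : c ∈ D cs (isCartan 2) (WittModel.X (modelSU hK hN W)) ρ) (hc0 : c ≠ 0) {χ : SU N K q → k}
    (hχ : ∀ t ∈ WittModel.T (modelSU hK hN W), ρ t c = χ t • c) {δ : K} (hδ0 : δ ≠ 0)
    {σ : SpecialLinearGroup (Fin 2) (fixedField hK) →* SU N K q}
    (hσ : ∀ A, R2 W 1 δ (toLin K q N (σ A)) A) (hs : ∀ y, toLin K q N y ∈ P2 W 1 → ∃ A, σ A = y)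
    (j : K →+* k) {c₂ : ℕ} (hval : ∀ s : (fixedField hK)ˣ, χ (σ (hh s)) = j ((s : fixedField hK) : K) ^ c₂)
    (R : RGD cs (isCartan 2) p (WittModel.T (modelSU hK hN W)) n (WittModel.X (modelSU hK hN W)))
    {t : SU N K q} (ht : t ∈ WittModel.T (modelSU hK hN W)) :
    χ t = j (F2 (toFrame W) (toLin K q N t)) ^ c₂ := by
  have : Finite ((Fin N → K) ≃ₗ[K] (Fin N → K)) :=
    Finite.of_injective (fun g : (Fin N → K) ≃ₗ[K] (Fin N → K) => (g : (Fin N → K) → (Fin N → K))) DFunLike.coe_injective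
  let S : Subgroup (SU N K q) :=
    { carrier := {t | t ∈ WittModel.T (modelSU hK hN W) ∧ χ t = j (F2 (toFrame W) (toLin K q N t)) ^ c₂}
      one_mem' := ⟨one_mem _, by rw [chi_one hc0 hχ, map_one, F2_one, map_one, one_pow]⟩
      mul_mem' := by
        rintro a b ⟨ha, ha'⟩ ⟨hb, hb'⟩
        refine ⟨mul_mem ha hb, ?_⟩
        rw [chi_mul hc0 hχ ha hb, ha', hb', map_mul, F2_mul_tor ((mem_T4 hN W).1 hb).2, map_mul, mul_pow]
      inv_mem' := by
        rintro a ⟨ha, ha'⟩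
        have ha1 := inv_mem ha
        refine ⟨ha1, ?_⟩
        have h1 := chi_mul hc0 hχ ha1 ha
        rw [inv_mul_cancel, chi_one hc0 hχ] at h1
        have h2 : F2 (toFrame W) (toLin K q N a⁻¹) * F2 (toFrame W) (toLin K q N a) = 1 := by
          rw [← F2_mul_tor ((mem_T4 hN W).1 ha).2, ← map_mul, inv_mul_cancel, map_one, F2_one]
        have h3 := congrArg (fun x => j x ^ c₂) h2
        simp only [map_mul, mul_pow, map_one, one_pow] at h3
        rw [← ha'] at h3
        have h4 : χ a ≠ 0 := fun h => by rw [h, mul_zero] at h1; exact one_ne_zero h1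
        exact mul_right_cancel₀ h4 (h1.symm.trans h3.symm) }
  suffices hle : WittModel.T (modelSU hK hN W) ≤ S from (hle ht).2
  refine (Cfsg.Agent.H925.Nat.T_le_iSup R (WittModel.G1_eq_top _ (by norm_num) _)).trans (iSup_le fun i => ?_)
  rintro g ⟨hg, hgT⟩
  have hg' : toLin K q N g ∈ Nv (toFrame W) i := by
    have h1 := Lv_eq hN W i
    have h2 : g ∈ (Nv (toFrame W) i).comap (toLin K q N) := by
      rw [← h1]; exact hg
    exact h2
  refine ⟨hgT, ?_⟩
  fin_cases i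
  · -- the first node
    have h1 : ρ g c = c := fix_of_mem h0 hc hg
    have h2 : χ g = 1 := by
      have h3 := hχ g hgT
      rw [h1] at h3
      have h4 : (1 : k) • c = χ g • c := by rw [one_smul]; exact h3
      exact (smul_left_injective k hc0 h4).symm
    have h5 : toLin K q N g ∈ (phiS (toFrame W) h01).range := by
      rw [phiS_range, ← rg_zero, ← rg_zero']
      exact hg'
    obtain ⟨A, hA⟩ := h5
    rw [h2, ← hA, F2_phiS, map_one, one_pow]
  · -- the second node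
    have h5 : toLin K q N g ∈ P2 W 1 := by
      have h1 : P2 W 1 = Nv (toFrame W) 1 := by
        unfold P2 Nv
        rw [rg_one, rg_one']
      rw [h1]
      exact hg'
    obtain ⟨A, rfl⟩ := hs g h5
    have hR := hσ A
    have hm := ((mem_T4 hN W).1 hgT).2
    have h10 : A 1 0 = 0 := by
      obtain ⟨l, -, hl⟩ := hm (1, true)
      have h6 := hR.fst
      have h7 : toLin K q N (σ A) (W.e 1) = l • W.e 1 := hl
      rw [map_smul, h7] at h6
      have h8 : ((A 0 0 : K) - l) • (δ • W.e 1) + (A 1 0 : K) • W.f 1 = 0 := by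
        rw [sub_smul, sub_add_eq_add_sub, ← h6, smul_comm, sub_self]
      exact Subtype.ext (indep hδ0 _ _ h8).2
    have h01' : A 0 1 = 0 := by
      obtain ⟨l, -, hl⟩ := hm (1, false)
      have h6 := hR.snd
      have h7 : toLin K q N (σ A) (W.f 1) = l • W.f 1 := hl
      rw [h7] at h6
      have h8 : (A 0 1 : K) • (δ • W.e 1) + ((A 1 1 : K) - l) • W.f 1 = 0 := by
        rw [sub_smul, ← add_sub_assoc, ← h6, sub_self]
      exact Subtype.ext (indep hδ0 _ _ h8).1
    have hdet := Cfsg.Agent.H911.SLTwo.det_eq A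
    have hA : A = hh ⟨A.1 0 0, A.1 1 1, by
        rw [(show A.1 0 1 = 0 from h01'), zero_mul, sub_zero] at hdet; exact hdet, by
        rw [(show A.1 0 1 = 0 from h01'), zero_mul, sub_zero] at hdet; rw [mul_comm]; exact hdet⟩ := by
      apply Cfsg.Agent.H911.SLTwo.ext' <;>
        simp only [Cfsg.Agent.H911.SLTwo.hh00, Cfsg.Agent.H911.SLTwo.hh01, Cfsg.Agent.H911.SLTwo.hh10,
          Cfsg.Agent.H911.SLTwo.hh11]
      · exact h01'
      · exact h10
      · rfl
    rw [F2_node_one hδ0 hR]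
    conv_lhs => rw [hA, hval]

end torus

/-! ### the realisation -/

/-- **the realisation** -/
theorem real (p0 : (toFrame W).Adm) (hp0 : p0.c ≠ 0) :
    Real (toFrame W) (WittModel.T (modelSU hK hN W))
      (fun i => (modelSU hK hN W).φ ⟨nn (toFrame W) p0 i, nn_mem (amb_U hK W) p0 i⟩)
      (WittModel.X (modelSU hK hN W)) (toLin K q N) where
  tor t ht := ((mem_T4 hN W).1 ht).2
  mono i := by
    have h1 : toLin K q N ((modelSU hK hN W).φ ⟨nn (toFrame W) p0 i, nn_mem (amb_U hK W) p0 i⟩) = nn (toFrame W) p0 i :=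
      toLin_ofRange _
    rw [h1]
    exact mono_nn hp0 i
  root x y hy := (mem_X4 hN W).1 hy
  sup i := WittModel.nw_mem_sup (modelSU hK hN W) (amb_U hK W) p0 i
  n0 := by
    have h1 : toLin K q N ((modelSU hK hN W).φ ⟨nn (toFrame W) p0 0, nn_mem (amb_U hK W) p0 0⟩) = nn (toFrame W) p0 0 :=
      toLin_ofRange _
    have h5 : ((0, true) : Fin 2 × Bool).1 ≠ ((1, false) : Fin 2 × Bool).1 := h01
    have h2 : nn (toFrame W) p0 0 = nX (toFrame W) (0, true) (1, false) 1 := rfl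
    rw [h1, h2, nX_apply_self _ h5 one_ne_zero, inv_one, one_smul]
    rfl
  n0' := by
    have h1 : toLin K q N ((modelSU hK hN W).φ ⟨nn (toFrame W) p0 0, nn_mem (amb_U hK W) p0 0⟩) = nn (toFrame W) p0 0 :=
      toLin_ofRange _
    have h5 : ((0, true) : Fin 2 × Bool).1 ≠ ((1, false) : Fin 2 × Bool).1 := h01
    have h2 : nn (toFrame W) p0 0 = nX (toFrame W) (0, true) (1, false) 1 := rfl
    have h3 := nX_apply_neg (toFrame W) h5 (t := (1 : K)) one_ne_zero
    rw [one_smul] at h3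
    rw [h1, h2]
    exact h3

end Cfsg.Agent.H269.Ppd
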