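import Cfsg.Agent.H269.Ppd.SUFour
import Cfsg.Agent.H650.Ppd.Count
import Cfsg.Agent.H269.Ppd.Rank
import Cfsg.Agent.H905.MdL

/-!
# Simple modules of `SU_4(q)` in the defining characteristic (helper269)

* `dim_of_edge` : `0 ∉ J`: `4 m ^ N ≤ n + 4`;
* `dim_of_siegel` : `0 ∈ J`;
* **`core_bound4`**.
-/

set_option autoImplicit false
set_option linter.unusedSectionVars false
set_option linter.style.haveILetI false

namespace Cfsg.Agent.H269.Ppd

open Matrix (SpecialLinearGroup)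
open scoped MatrixGroups
open CoxeterSystem Cfsg.Agent.ChevalleyStructure.CoxeterGeom Cfsg.Agent.Tits.Roots Cfsg.Agent.Nodes.TypeC
open Cfsg.Agent.Nodes Cfsg.Agent.Nodes.Comb Cfsg.Agent.Nodes.Reps Cfsg.Agent.Nodes.WittRoot Cfsg.Agent.Nodes.BNOf
open Cfsg.Agent.Nodes.WittRGD Cfsg.Agent.Nodes.RGDLib Cfsg.Agent.Nodes.OppDec Cfsg.Agent.Nodes.Bruhat
open Cfsg.Agent.Omega.CR Cfsg.Agent.Omega.FOne.Lift.Sd Cfsg.Agent.Nodes.StabComb Cfsg.Agent.Tits.Core
open Cfsg.Agent.Tits.Exchange Cfsg.Agent.H905.Md Cfsg.Agent.KFacts.RgdOpp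
open Cfsg.Agent.TitsThree Cfsg.Agent.TitsThree.Siegel Cfsg.Agent.TitsThree.SiegelGen
  Cfsg.Agent.TitsThree.WittFrame Cfsg.Agent.TitsThree.WittWeyl Cfsg.Agent.TitsThree.FrameCN
  Cfsg.Agent.TitsThree.WBridge Cfsg.Agent.TitsThree.KSideU Cfsg.Agent.TitsThree.KSideUDesc
open Cfsg.Agent.Nodes.WittAll (AmbT rgdC_model)
open Cfsg.Agent.Nodes.WittU (amb_U exists_adm)
open Cfsg.Agent.LieClassical.HermBasic
open Cfsg.Agent.H61.SUCross (modelSU T_eq X_eq Lv_eq Nv_le exists_delta)
open Cfsg.Agent.H61.LastEven (P2 R2 η_eq)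
open Cfsg.Agent.H650.Ppd (Nd)
open Cfsg.Agent.H911.SLTwo (U Lo hh)
open Cfsg.Agent.H911 (lin)
open Cfsg.Agent.H875.Fn
open Cfsg.Agent.Phan (fixedField mem_fixedField card_fixedField)
open Cfsg Cfsg.Geo
open Cfsg.Agent.H915.LD (Core Soc)

section edge

variable {Wg Y : Type*} [Group Wg] [Group Y] {cs : CoxeterSystem (CoxeterMatrix.B 2) Wg} {p : ℕ} {T : Subgroup Y}
  {n : Fin 2 → Y} {X : (Fin 2 → ℤ) → Subgroup Y} {k V : Type*} [Field k] [AddCommGroup V] [Module k V]
variable (R : RGD cs (isCartan 2) p T n X) [Finite Y] [Finite Wg] [Fact p.Prime] [CharP k p]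
  {ρ : Y →* Module.End k V} [FiniteDimensional k V] [Nontrivial V]
  (hirr : ∀ L : Submodule k V, Ivt ρ (GG cs (isCartan 2) T X) L → L = ⊥ ∨ L = ⊤)
include R hirr

/-- four vertices and four edges -/
theorem four_four {i : Fin 2} (hi : i ∉ Jx cs (isCartan 2) X ρ) :
    4 * Module.finrank k (D cs (isCartan 2) X ρ) + 4 * Module.finrank k (Io cs (isCartan 2) T X ρ i) ≤
      Module.finrank k V := by
  fin_cases i
  · exact Cfsg.Agent.H650.Ppd.dim_ge_list R hirr hi [[], [0], [0, 1], [0, 1, 0]] [[], [1], [1, 0], [1, 0, 1]]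
      (by decide) (by decide)
  · exact Cfsg.Agent.H650.Ppd.dim_ge_list R hirr hi [[], [1], [1, 0], [1, 0, 1]] [[], [0], [0, 1], [0, 1, 0]]
      (by decide) (by decide)

end edge

section siegel

variable {K : Type} [Field K] [Fintype K] {q N : ℕ} {hK : Fintype.card K = q ^ 2} {W : WFrame (PU hK N) 2}

/-- admissible pairs -/
def aE (W : WFrame (PU hK N) 2) {δ : K} (hδ : δ ^ q = -δ) (t : fixedField hK) : (toFrame W).Adm :=
  ⟨0, t * δ, W.V0.zero_mem, by
    have ht : (t : K) ^ q = t := t.2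
    rw [ok_iff, herm_zero_left, mul_pow, hδ, ht]; ring⟩

/-- root elements of `SU` -/
noncomputable def zE (W : WFrame (PU hK N) 2) (i : Fin 2) (p : (toFrame W).Adm) : SU N K q :=
  ofRange K q N ⟨(toFrame W).Z (i, true) p, Z_mem hK W _ _⟩

/-- root elements of `SU` -/
noncomputable def xE (W : WFrame (PU hK N) 2) (t : K) : SU N K q :=
  ofRange K q N ⟨(toFrame W).X (0, true) (1, true) t, X_mem hK W _ _ _⟩

theorem toLin_zE (i : Fin 2) (p : (toFrame W).Adm) : toLin K q N (zE W i p) = (toFrame W).Z (i, true) p :=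
  toLin_ofRange _

theorem toLin_xE (t : K) : toLin K q N (xE W t) = (toFrame W).X (0, true) (1, true) t := toLin_ofRange _

variable {k E : Type*} [Field k] [AddCommGroup E] [Module k E] [FiniteDimensional k E] {ρ : SU N K q →* Module.End k E}

/-- **the bound from the Siegel unipotent** -/
theorem siegel_bound (p : ℕ) [hp : Fact p.Prime] [CharP k p] {f c₂ : ℕ} (hq : q = p ^ f) (hc2 : c₂ < q) {δ : K}
    (hδ : δ ^ q = -δ) (hδ0 : δ ≠ 0) {j : K →+* k} {φ : Module.Dual k E} {c : E} {d : k} (hd : d ≠ 0)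
    (hcoef : ∀ y : SU N K q, φ (ρ y c) = d * j (F2 (toFrame W) (toLin K q N y)) ^ c₂) {y0 : SU N K q} {l m : K}
    (hl : l ≠ 0) (hm : m ≠ 0)
    (h0 : toLin K q N y0 ((toFrame W).b (0, true)) = l • (toFrame W).b (0, false))
    (h1 : toLin K q N y0 ((toFrame W).b (1, true)) = m • (toFrame W).b (1, false)) :
    ∑ e ∈ SS p c₂, (SS p e).card ^ 2 ≤ Module.finrank k E := by
  have : Fintype (fixedField hK) := Fintype.ofFinite _
  have hS : Fintype.card (fixedField hK) = p ^ f := by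
    rw [← Nat.card_eq_fintype_card, card_fixedField, hq]
  have hL : Fintype.card K = (p ^ f) ^ 2 := by rw [hK, hq]
  refine rank_quad (S := fixedField hK) (L := K) (x := fun s => j (s * δ)) (z := j) (t := f) (c := c₂)
    (fun a b hab => ?_) j.injective hS hL (by rw [← hq]; exact hc2)
    (φ := fun A => φ.comp (ρ (zE W 0 (aE W hδ A.1) * xE W A.2)))
    (v := fun B => ρ (zE W 1 (aE W hδ B.1) * xE W B.2 * y0) c) (d := d * j (l * m) ^ c₂)
    (mul_ne_zero hd (pow_ne_zero _ ?_)) (fun A B => ?_)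
  · have h2 : (a : K) * δ = b * δ := j.injective hab
    exact Subtype.ext (mul_right_cancel₀ hδ0 h2)
  · rw [Ne, map_eq_zero]
    exact mul_ne_zero hl hm
  · change φ (ρ (zE W 0 (aE W hδ A.1) * xE W A.2) (ρ (zE W 1 (aE W hδ B.1) * xE W B.2 * y0) c)) = _
    have hcomm : Commute ((toFrame W).Z (1, true) (aE W hδ B.1)) ((toFrame W).X (0, true) (1, true) A.2) :=
      Frame.commute_ZX _ (by simp [neg]) (by simp [neg]) _ _
    have e1 : toLin K q N (zE W 0 (aE W hδ A.1) * xE W A.2 * (zE W 1 (aE W hδ B.1) * xE W B.2 * y0)) =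
        (toFrame W).Z (0, true) (aE W hδ A.1) * (toFrame W).Z (1, true) (aE W hδ B.1) *
          (toFrame W).X (0, true) (1, true) (A.2 + B.2) * toLin K q N y0 := by
      simp only [map_mul, toLin_zE, toLin_xE]
      rw [Frame.X_add]
      calc (toFrame W).Z (0, true) (aE W hδ A.1) * (toFrame W).X (0, true) (1, true) A.2 *
            ((toFrame W).Z (1, true) (aE W hδ B.1) * (toFrame W).X (0, true) (1, true) B.2 * toLin K q N y0)
          = (toFrame W).Z (0, true) (aE W hδ A.1) * ((toFrame W).X (0, true) (1, true) A.2 *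
            (toFrame W).Z (1, true) (aE W hδ B.1)) * (toFrame W).X (0, true) (1, true) B.2 * toLin K q N y0 := by
            simp only [mul_assoc]
        _ = _ := by rw [← hcomm.eq]; simp only [mul_assoc]
    have e2 : (aE W hδ A.1).c = A.1 * δ := rfl
    have e3 : (aE W hδ B.1).c = B.1 * δ := rfl
    rw [← rho_mul, hcoef, e1, F2_siegel h0 h1 (p := aE W hδ A.1) (p' := aE W hδ B.1) rfl rfl, e2, e3, η_eq, η_eq,
      HU_ε, HU_σ, ← hq]
    simp only [inv_one, one_mul]
    have e4 : j (l * m * ((A.1 : K) * δ * ((B.1 : K) * δ) + (A.2 + B.2) ^ q * (A.2 + B.2))) =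
        j (l * m) * (j ((A.1 : K) * δ) * j ((B.1 : K) * δ) + (j A.2 + j B.2) ^ (q + 1)) := by
      rw [map_mul, map_add, map_mul j ((A.1 : K) * δ), map_mul j ((A.2 + B.2) ^ q), map_pow, map_add, pow_succ]
    rw [e4, mul_pow, ← mul_assoc]

end siegel

/-! ### the numbers -/

theorem exists_digits {a f N : ℕ} (ha : a ≠ 0) (hf : f ≠ 0) (h : a * N = 2 * f) :
    ∃ s, s * Nat.gcd a f = f ∧ 1 ≤ s ∧ (N = 2 * s ∨ (N = s ∧ ¬ 2 ∣ s)) := by
  rcases Nat.even_or_odd N with hN | hN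
  · obtain ⟨t, ht⟩ := hN
    have h1 : a * t = f := by
      have : 2 * (a * t) = 2 * f := by rw [← h, ht]; ring
      omega
    have h2 : Nat.gcd a f = a := Nat.gcd_eq_left (Dvd.intro t h1)
    refine ⟨t, by rw [h2, mul_comm]; exact h1, ?_, Or.inl (by omega)⟩
    rcases Nat.eq_zero_or_pos t with h0 | h0
    · rw [h0, mul_zero] at h1
      exact absurd h1.symm hf
    · exact h0
  · have h2 : 2 ∣ a := by
      have h3 : 2 ∣ a * N := Dvd.intro f h.symm
      exact (Nat.Coprime.dvd_of_dvd_mul_right (Nat.coprime_two_left.2 hN) h3)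
    obtain ⟨b, rfl⟩ := h2
    have h3 : b * N = f := by
      have : 2 * (b * N) = 2 * f := by rw [← h]; ring
      omega
    have h4 : Nat.gcd (2 * b) f = b := by
      rw [← h3, mul_comm 2 b, Nat.gcd_mul_left, Nat.coprime_two_left.2 hN, mul_one]
    refine ⟨N, by rw [h4, mul_comm]; exact h3, ?_, Or.inr ⟨rfl, ?_⟩⟩
    · have := hN.pos
      omega
    · intro h5
      rw [← Nat.not_even_iff_odd] at hN
      exact hN (even_iff_two_dvd.2 h5)

section main

universe u

variable {F : Type u} [Field F] [Finite F] {ι : Type} [Fintype ι] [DecidableEq ι] {P : Subgroup (GL ι F)}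
  (p : ℕ) [hp : Fact p.Prime] [hFp : CharP F p] {K : Type} [Field K] [Fintype K] [hKp : CharP K p]

include hp hFp hKp in
/-- **cores of type `PSU(4, q)`** -/
theorem core_bound4 {q N : ℕ} (hC : Core P) (hK : Fintype.card K = q ^ 2) (e : Soc P ≃* PSU 4 K q)
    (hN : Nat.card F ^ N = q ^ 2) (h7 : 7 ≤ Fintype.card ι) :
    4 * 2 ^ N ≤ Fintype.card ι + 4 ∨ ∃ s, 1 ≤ s ∧ (N = 2 * s ∨ (N = s ∧ ¬ 2 ∣ s)) ∧ 4 ^ s ≤ Fintype.card ι ∧
      (s = 2 → 25 ≤ Fintype.card ι) ∧ (s = 1 → 14 ≤ Fintype.card ι) := by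
  classical
  have hne : Nonempty ι := Fintype.card_pos_iff.1 (by omega)
  have : Fintype F := Fintype.ofFinite F
  have hchar : CharP (AlgebraicClosure F) p := charP_of_injective_algebraMap (algebraMap F _).injective p
  have hn4 : 3 ≤ 4 := by norm_num
  have hp1 := hp.out.one_lt
  obtain ⟨φ, h1, -, -⟩ := psu_cover p hC.perfect hn4 hK (by omega) e
  obtain ⟨W, hV0⟩ := exists_wframe_even (N := 4) hK (m := 2) rfl
  obtain ⟨p0, hp0, -⟩ := exists_adm hK W
  have hA : AmbT (toFrame W) p (modelSU hK hn4 W).I := AmbT.of_amb (amb_U hK W) p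
  have hfinW : Finite (CoxeterMatrix.B 2).Group := finite_W (CoxeterMatrix.B 2).toCoxeterSystem
  have R := rgdC_model (modelSU hK hn4 W) hA hp0 (CoxeterMatrix.B 2).toCoxeterSystem
  have hGG := gg_top (T := WittModel.T (modelSU hK hn4 W)) (WittModel.G1_eq_top (modelSU hK hn4 W) (by norm_num)
    (CoxeterMatrix.B 2).toCoxeterSystem)
  have hT := modelT_comm hA (Or.inl hV0)
  have hirr := ac_irr R hGG hT h1 hC.absIrred
  have hfr : Module.finrank (AlgebraicClosure F) (ι → AlgebraicClosure F) = Fintype.card ι := by simp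
  by_cases h0 : (0 : Fin 2) ∈ Jx (CoxeterMatrix.B 2).toCoxeterSystem (isCartan 2)
      (WittModel.X (modelSU hK hn4 W)) (lin (acRep φ))
  swap
  · -- the first node is not in `J`
    left
    obtain ⟨m, hm, hfin⟩ := Cfsg.Agent.H650.Ppd.edge_pow_of_card R hGG hT h1 hC.absIrred (node_zero hn4 W) h0
      (s := N) (by rw [Nat.card_eq_fintype_card, hK, hN])
    have h2 := four_four R hirr h0
    have h3 := finrank_Io R hirr (ρ := lin (acRep φ)) 0
    rw [finrank_D R hirr hT] at h2 h3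
    rw [hfr] at h2
    rw [hfin] at h3
    have h4 := Nat.pow_le_pow_left hm N
    omega
  · right
    have hcD := finrank_D R hirr hT
    obtain ⟨i, hi⟩ := exists_not_mem R hirr (by rw [hcD, hfr]; omega)
    have h1J : (1 : Fin 2) ∉ Jx (CoxeterMatrix.B 2).toCoxeterSystem (isCartan 2)
        (WittModel.X (modelSU hK hn4 W)) (lin (acRep φ)) := by
      fin_cases i
      · exact absurd h0 hi
      · exact hi
    obtain ⟨c, hc, hc0, χ, hχ⟩ := exists_chi R hirr hT
    obtain ⟨δ, hδ, hδ0⟩ := exists_delta hK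
    obtain ⟨σ, hNd, hσR, hσs⟩ := node_one hn4 hV0 hδ hδ0
    obtain ⟨j⟩ := Cfsg.Agent.H875.Psl2.exists_emb F K p
    -- the numbers
    obtain ⟨a, -, ha⟩ := FiniteField.card F p
    have hF : Nat.card F = p ^ (a : ℕ) := by rw [Nat.card_eq_fintype_card, ha]
    obtain ⟨b, -, hb⟩ := FiniteField.card K p
    obtain ⟨f, hq⟩ : ∃ f, q = p ^ f := by
      have h2 : q ∣ p ^ (b : ℕ) := by rw [← hb, hK, sq]; exact Dvd.intro _ rfl
      obtain ⟨f, -, hf⟩ := (Nat.dvd_prime_pow hp.out).1 h2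
      exact ⟨f, hf⟩
    have haN : (a : ℕ) * N = 2 * f := by
      apply Nat.pow_right_injective hp.out.two_le
      simp only
      rw [pow_mul, ← hF, hN, hq, ← pow_mul, mul_comm]
    have hf0 : f ≠ 0 := by
      rintro rfl
      rw [pow_zero] at hq
      rw [hq] at hK
      have := Fintype.one_lt_card (α := K)
      omega
    obtain ⟨s, hs, hs1, hsN⟩ := exists_digits a.pos.ne' hf0 haN
    have : Fintype (fixedField hK) := Fintype.ofFinite _
    have hEp : CharP (fixedField hK) p :=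
      (RingHom.charP_iff (fixedField hK).subtype (fixedField hK).subtype_injective p).2 inferInstance
    obtain ⟨r₀, hr0, hr1, hr2, -⟩ := Cfsg.Agent.H650.Ppd.edge_data R hGG hT h1 hC.absIrred hNd h1J hF
      (by rw [card_fixedField, hq]) hs (j.comp (fixedField hK).subtype) hc hc0 hχ
    set c₂ := r₀ * ∑ l ∈ Finset.range s, (p ^ Nat.gcd a f) ^ l with hc₂
    have hg0 : Nat.gcd a f ≠ 0 := Nat.gcd_ne_zero_left a.pos.ne'
    have hQ2 : 1 < p ^ Nat.gcd a f := Nat.one_lt_pow hg0 hp1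
    have hgeo : (∑ l ∈ Finset.range s, (p ^ Nat.gcd a f) ^ l) * (p ^ Nat.gcd a f - 1) = q - 1 := by
      have h2 := Nat.geomSum_eq (m := p ^ Nat.gcd a f) hQ2 s
      have h3 := Nat.sub_dvd_pow_sub_pow (p ^ Nat.gcd a f) 1 s
      rw [one_pow] at h3
      rw [h2, Nat.div_mul_cancel h3, ← pow_mul, mul_comm _ s, hs, ← hq]
    have hq1 : 1 < q := by rw [hq]; exact Nat.one_lt_pow hf0 hp1
    have hsum0 : (∑ l ∈ Finset.range s, (p ^ Nat.gcd a f) ^ l) ≠ 0 := by
      intro h2
      rw [h2, zero_mul] at hgeo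
      omega
    have hc20 : c₂ ≠ 0 := mul_ne_zero hr0 hsum0
    have hc2q : c₂ < q := by
      have h2 : c₂ ≤ q - 1 := by
        rw [hc₂, ← hgeo, mul_comm]
        exact Nat.mul_le_mul_left _ (by omega)
      omega
    -- the coefficient
    have hχ2 : ∀ t ∈ WittModel.T (modelSU hK hn4 W), χ t = j (F2 (toFrame W) (toLin K q 4 t)) ^ c₂ :=
      fun t ht => chi_eq hn4 h0 hc hc0 hχ hδ0 hσR hσs j hr2 R ht
    obtain ⟨ψ, hψ, hψc⟩ := exists_pair_D R hirr hc hc0
    obtain ⟨v0, hv0, g, hg, -, hgm⟩ := exists_neg (modelSU hK hn4 W)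
      (cs := (CoxeterMatrix.B 2).toCoxeterSystem) hA hp0 R.nsys
    have hcoef := (real hn4 W p0 hp0).master R hirr hc hc0 hχ hc20 h0 h1J hχ2 hψ hGG hv0
    obtain ⟨l, hl, hl'⟩ := hgm (0, true)
    obtain ⟨m, hm, hm'⟩ := hgm (1, true)
    have hy0 : toLin K q 4 ((modelSU hK hn4 W).φ ⟨g, hg⟩) = g := toLin_ofRange _
    have hsb := siegel_bound p hq hc2q hδ hδ0 hψc hcoef (y0 := (modelSU hK hn4 W).φ ⟨g, hg⟩) hl hm
      (by rw [hy0]; exact hl') (by rw [hy0]; exact hm')
    rw [hfr] at hsb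
    refine ⟨s, hs1, hsN, (four_pow_le hr1 hr0 s).trans hsb, ?_, ?_⟩
    · rintro rfl
      exact (twentyfive_le hr1 hr0).trans hsb
    · rintro rfl
      by_cases h3 : 3 ≤ (SS p c₂).card
      · exact (fourteen_le h3).trans hsb
      · exfalso
        have h4 := two_le_card_SS (p := p) hc20
        obtain ⟨t, ht⟩ := Cfsg.Agent.H875.Psl2.eq_pow_of_card_two (p := p) (r := c₂) (by omega)
        have hsp : ∀ v : Fin 4 → K, ∃ a : Fin 2 × Bool → K, v = ∑ x, a x • (toFrame W).b x := by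
          intro v
          obtain ⟨x, y, w, hw, hv⟩ := W.span v
          rw [hV0, Submodule.mem_bot] at hw
          refine ⟨fun z => if z.2 then x z.1 else y z.1, ?_⟩
          rw [hv, hw, add_zero, Fintype.sum_prod_type]
          simp only [Fintype.sum_bool, if_true, Bool.false_eq_true, if_false, toFrame_b_true, toFrame_b_false]
          rw [Finset.sum_add_distrib]
        have h5 := finrank_le_six (Fr := toFrame W) (τ := toLin K q 4) (φ := ψ) p hsp (by rw [← hGG]; exact hirr) j (i := t) hc0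
          (fun h => hψc (by rw [h]; rfl)) (by rw [← ht]; exact hcoef)
        rw [hfr] at h5
        omega

end main

end Cfsg.Agent.H269.Ppd
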