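import Cfsg.Agent.H269.Ppd.Master
import Cfsg.Agent.H905.MdQ

/-!
# The second coordinate function: the Siegel unipotent and the Plücker expansion (helper269)

* `F2_siegel` : the value of `F2` on `Z_0(p) Z_1(p') X(t) g`, `g e_i` a multiple of `f_i`;
* `F2_plucker` : `F2 (g h)` is a sum of six products;
* **`finrank_le_six`** : `φ (ρ y c) = d j(F2 (τ y)) ^ (p ^ i)` implies `dim E ≤ 6`.
-/

set_option autoImplicit false
set_option linter.unusedSectionVars false
set_option linter.style.haveILetI false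

namespace Cfsg.Agent.H269.Ppd

open CoxeterSystem Cfsg.Agent.ChevalleyStructure.CoxeterGeom Cfsg.Agent.Tits.Roots Cfsg.Agent.Nodes.TypeC
open Cfsg.Agent.Nodes.Comb Cfsg.Agent.Nodes.Reps Cfsg.Agent.Nodes.WittRoot Cfsg.Agent.Nodes.BNOf
open Cfsg.Agent.Nodes.WittRGD Cfsg.Agent.Nodes.RGDLib Cfsg.Agent.Nodes.OppDec Cfsg.Agent.Nodes.Bruhat
open Cfsg.Agent.Omega.CR Cfsg.Agent.Omega.FOne.Lift.Sd Cfsg.Agent.Nodes.StabComb Cfsg.Agent.Tits.Core
open Cfsg.Agent.Tits.Exchange Cfsg.Agent.H905.Md Cfsg.Agent.KFacts.RgdOpp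
open Cfsg.Agent.TitsThree Cfsg.Agent.TitsThree.Siegel Cfsg.Agent.TitsThree.WittFrame
  Cfsg.Agent.TitsThree.WittWeyl Cfsg.Agent.TitsThree.FrameCN

variable {K : Type*} [Field K] {V : Type*} [AddCommGroup V] [Module K V] {H : HForm K V} {Fr : Frame H (Fin 2)}

/-- **the value on the Siegel unipotent** -/
theorem F2_siegel {g : V ≃ₗ[K] V} {l m : K} (h0 : g (Fr.b (0, true)) = l • Fr.b (0, false))
    (h1 : g (Fr.b (1, true)) = m • Fr.b (1, false)) {p p' : Fr.Adm} (hp : p.w = 0) (hp' : p'.w = 0) (t : K) :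
    F2 Fr (Fr.Z (0, true) p * Fr.Z (1, true) p' * Fr.X (0, true) (1, true) t * g) =
      l * m * (Fr.η (0, true) * Fr.η (1, true) * (p.c * p'.c) +
        H.ε⁻¹ * Fr.η (0, true) * Fr.η (1, true) * (H.σ t * t)) := by
  have hne : ((0, true) : Fin 2 × Bool).1 ≠ ((1, true) : Fin 2 × Bool).1 := by decide
  have a1 : Fr.X (0, true) (1, true) t (Fr.b (0, false)) = Fr.b (0, false) -
      (H.ε⁻¹ * Fr.η (0, true) * Fr.η (1, true) * H.σ t) • Fr.b (1, true) := X_apply_neg' Fr hne t
  have a2 : Fr.X (0, true) (1, true) t (Fr.b (1, false)) = Fr.b (1, false) + t • Fr.b (0, true) := X_apply_neg Fr hne t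
  have b1 : Fr.Z (1, true) p' (Fr.b (0, false)) = Fr.b (0, false) := Z_apply_of_ne Fr (by simp [neg]) p'
  have b2 : Fr.Z (1, true) p' (Fr.b (1, true)) = Fr.b (1, true) := Z_apply_of_ne Fr (by simp [neg]) p'
  have b3 : Fr.Z (1, true) p' (Fr.b (0, true)) = Fr.b (0, true) := Z_apply_of_ne Fr (by simp [neg]) p'
  have b4 : Fr.Z (1, true) p' (Fr.b (1, false)) = Fr.b (1, false) + (p'.c * Fr.η (1, true)) • Fr.b (1, true) := by
    have := Z_apply_neg Fr (1, true) p'
    rw [hp', smul_zero, add_zero] at this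
    exact this
  have c1 : Fr.Z (0, true) p (Fr.b (0, false)) = Fr.b (0, false) + (p.c * Fr.η (0, true)) • Fr.b (0, true) := by
    have := Z_apply_neg Fr (0, true) p
    rw [hp, smul_zero, add_zero] at this
    exact this
  have c2 : Fr.Z (0, true) p (Fr.b (1, true)) = Fr.b (1, true) := Z_apply_of_ne Fr (by simp [neg]) p
  have c3 : Fr.Z (0, true) p (Fr.b (0, true)) = Fr.b (0, true) := Z_apply_of_ne Fr (by simp [neg]) p
  have c4 : Fr.Z (0, true) p (Fr.b (1, false)) = Fr.b (1, false) := Z_apply_of_ne Fr (by simp [neg]) p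
  unfold F2
  simp only [mul_apply']
  rw [h0, h1]
  simp only [map_smul, map_sub, map_add, a1, a2, b1, b2, b3, b4, c1, c2, c3, c4]
  simp only [H.smul_left, H.sub_left, H.add_left, h_b_false]
  simp
  ring

/-- the Plücker expansion -/
theorem F2_plucker {h : V ≃ₗ[K] V} {a a' : Fin 2 × Bool → K} (h0 : h (Fr.b (0, true)) = ∑ x, a x • Fr.b x)
    (h1 : h (Fr.b (1, true)) = ∑ x, a' x • Fr.b x) (g : V ≃ₗ[K] V) :
    F2 Fr (g * h) =
      (a (0, true) * a' (1, true) - a (1, true) * a' (0, true)) *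
        (H.h (g (Fr.b (0, true))) (Fr.b (0, false)) * H.h (g (Fr.b (1, true))) (Fr.b (1, false)) -
          H.h (g (Fr.b (1, true))) (Fr.b (0, false)) * H.h (g (Fr.b (0, true))) (Fr.b (1, false))) +
      (a (0, true) * a' (0, false) - a (0, false) * a' (0, true)) *
        (H.h (g (Fr.b (0, true))) (Fr.b (0, false)) * H.h (g (Fr.b (0, false))) (Fr.b (1, false)) -
          H.h (g (Fr.b (0, false))) (Fr.b (0, false)) * H.h (g (Fr.b (0, true))) (Fr.b (1, false))) +
      (a (0, true) * a' (1, false) - a (1, false) * a' (0, true)) *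
        (H.h (g (Fr.b (0, true))) (Fr.b (0, false)) * H.h (g (Fr.b (1, false))) (Fr.b (1, false)) -
          H.h (g (Fr.b (1, false))) (Fr.b (0, false)) * H.h (g (Fr.b (0, true))) (Fr.b (1, false))) +
      (a (1, true) * a' (0, false) - a (0, false) * a' (1, true)) *
        (H.h (g (Fr.b (1, true))) (Fr.b (0, false)) * H.h (g (Fr.b (0, false))) (Fr.b (1, false)) -
          H.h (g (Fr.b (0, false))) (Fr.b (0, false)) * H.h (g (Fr.b (1, true))) (Fr.b (1, false))) +
      (a (1, true) * a' (1, false) - a (1, false) * a' (1, true)) *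
        (H.h (g (Fr.b (1, true))) (Fr.b (0, false)) * H.h (g (Fr.b (1, false))) (Fr.b (1, false)) -
          H.h (g (Fr.b (1, false))) (Fr.b (0, false)) * H.h (g (Fr.b (1, true))) (Fr.b (1, false))) +
      (a (0, false) * a' (1, false) - a (1, false) * a' (0, false)) *
        (H.h (g (Fr.b (0, false))) (Fr.b (0, false)) * H.h (g (Fr.b (1, false))) (Fr.b (1, false)) -
          H.h (g (Fr.b (1, false))) (Fr.b (0, false)) * H.h (g (Fr.b (0, false))) (Fr.b (1, false))) := by
  have hsum : ∀ f : Fin 2 × Bool → V, ∑ x, f x = f (0, true) + f (0, false) + (f (1, true) + f (1, false)) := by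
    intro f
    rw [Fintype.sum_prod_type, Fin.sum_univ_two, Fintype.sum_bool, Fintype.sum_bool]
  unfold F2
  simp only [mul_apply']
  rw [h0, h1, hsum, hsum]
  simp only [map_smul, map_add, H.smul_left, H.add_left]
  ring

section kernel

variable {Y k E : Type*} [Group Y] [Field k] [AddCommGroup E] [Module k E] [FiniteDimensional k E]
  {ρ : Y →* Module.End k E} {τ : Y →* (V ≃ₗ[K] V)}

/-- **The exponent `p ^ i`: dimension at most six.** -/
theorem finrank_le_six (p : ℕ) [hp : Fact p.Prime] [CharP k p]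
    (hsp : ∀ v : V, ∃ a : Fin 2 × Bool → K, v = ∑ x, a x • Fr.b x)
    (hirr : ∀ L : Submodule k E, Ivt ρ ⊤ L → L = ⊥ ∨ L = ⊤) (j : K →+* k) {i : ℕ} {c : E} (hc0 : c ≠ 0)
    {φ : Module.Dual k E} (hφ0 : φ ≠ 0) {d : k}
    (hcoef : ∀ y : Y, φ (ρ y c) = d * j (F2 Fr (τ y)) ^ p ^ i) : Module.finrank k E ≤ 6 := by
  obtain ⟨j', hj'⟩ : ∃ j' : K →+* k, ∀ x, j' x = j x ^ p ^ i := by
    have : ExpChar k p := ExpChar.prime hp.out
    exact ⟨(iterateFrobenius k p i).comp j, fun x => iterateFrobenius_def _ _ _⟩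
  choose C hC using hsp
  let B : Y → Fin 2 × Bool → Fin 2 × Bool → K := fun y x z =>
    H.h (τ y (Fr.b x)) (Fr.b (0, false)) * H.h (τ y (Fr.b z)) (Fr.b (1, false)) -
      H.h (τ y (Fr.b z)) (Fr.b (0, false)) * H.h (τ y (Fr.b x)) (Fr.b (1, false))
  let A : Y → Fin 2 × Bool → Fin 2 × Bool → K := fun y x z =>
    C (τ y (Fr.b (0, true))) x * C (τ y (Fr.b (1, true))) z - C (τ y (Fr.b (0, true))) z * C (τ y (Fr.b (1, true))) x
  have h1 := finrank_le_of_kernel (G := ⊤) hirr hc0 hφ0 (α := Fin 6)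
    (fun g => ![d * j' (B g (0, true) (1, true)), d * j' (B g (0, true) (0, false)), d * j' (B g (0, true) (1, false)),
      d * j' (B g (1, true) (0, false)), d * j' (B g (1, true) (1, false)), d * j' (B g (0, false) (1, false))])
    (fun h => ![j' (A h (0, true) (1, true)), j' (A h (0, true) (0, false)), j' (A h (0, true) (1, false)),
      j' (A h (1, true) (0, false)), j' (A h (1, true) (1, false)), j' (A h (0, false) (1, false))])
    (fun g _ h _ => by
      rw [hcoef, ← hj', map_mul τ g h, F2_plucker (hC (τ h (Fr.b (0, true)))) (hC (τ h (Fr.b (1, true))))]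
      simp only [Fin.sum_univ_succ, Matrix.cons_val_zero, Matrix.cons_val_succ, Fin.sum_univ_zero, map_add, map_mul, A, B]
      ring)
  simpa using h1

end kernel

end Cfsg.Agent.H269.Ppd
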